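import Groth.Agent.H46.GRAtOpen
import Groth.Agent.H46.FibreProf.Unit
import Groth.Agent.H46.GeomSpread.Constructible
import Groth.Agent.Lib.GenFree.Sheaf
import Groth.Agent.H75.RedSub
import Mathlib.AlgebraicGeometry.Geometrically.Reduced

/-!
# The locus of geometrically reduced fibres is locally constructible
-/

set_option autoImplicit false
set_option backward.isDefEq.respectTransparency false
set_option linter.style.haveILetI false
universe u
open CategoryTheory CategoryTheory.Limits AlgebraicGeometry TopologicalSpace Topology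
open Groth.Agent Groth.Agent.H46.GRAt

namespace Groth.Agent.H69.FibreLoci.GR

variable {X Y : Scheme.{u}}

theorem geometricallyReduced_fiber_iff (f : X ⟶ Y) (y : Y) :
    GeometricallyReduced (f.fiberToSpecResidueField y) ↔ ∀ x : X, f x = y → GRAt f x := by
  constructor
  · intro h x hx
    obtain ⟨a, rfl⟩ : x ∈ Set.range (f.fiberι y) := by rw [Scheme.Hom.range_fiberι]; exact hx
    rw [grAt_iff_fiber]
    intro K _ _ z _
    have : IsReduced (_root_.FBase.bc (k := Y.residueField y) (f.fiberToSpecResidueField y) K) :=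
      GeometricallyReduced.geometrically_isReduced _ _ _ (IsPullback.of_hasPullback _ _)
    infer_instance
  · intro h
    refine ⟨?_⟩
    rw [geometrically_iff_of_isClosedUnderIsomorphisms]
    intro K _ σ
    obtain ⟨φ, rfl⟩ := Spec.map_surjective σ
    let _ : Algebra (Y.residueField y) K := φ.hom.toAlgebra
    have hx : ∀ a, f (f.fiberι y a) = y := fun a => (Scheme.Hom.range_fiberι f y).subset ⟨a, rfl⟩
    have : ∀ z, _root_.IsReduced
        ((_root_.FBase.bc (k := Y.residueField y) (f.fiberToSpecResidueField y) K).presheaf.stalk z) := fun z =>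
      ((grAt_iff_fiber f y _).1 (h _ (hx _))) K z rfl
    exact isReduced_of_isReduced_stalk (_root_.FBase.bc (k := Y.residueField y) (f.fiberToSpecResidueField y) K)

theorem forall_baseChange_iff {X' Y' : Scheme.{u}} {f : X ⟶ Y} {f' : X' ⟶ Y'} {g' : X' ⟶ X}
    {g : Y' ⟶ Y} (sq : IsPullback g' f' f g) (y' : Y') :
    (∀ x', f' x' = y' → GRAt f' x') ↔ ∀ x, f x = g y' → GRAt f x := by
  constructor
  · intro h x hx
    obtain ⟨z, hz1, hz2⟩ := Scheme.Pullback.exists_preimage_pullback (f := f) (g := g) x y' hx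
    have h1 : g' (sq.isoPullback.inv z) = x := by
      rw [← Scheme.Hom.comp_apply, sq.isoPullback_inv_fst, hz1]
    have h2 : f' (sq.isoPullback.inv z) = y' := by
      rw [← Scheme.Hom.comp_apply, sq.isoPullback_inv_snd, hz2]
    exact h1 ▸ of_baseChange sq _ (h _ h2)
  · intro h x' hx'
    refine baseChange sq x' (h _ ?_)
    rw [← hx', ← Scheme.Hom.comp_apply, sq.w, Scheme.Hom.comp_apply]

theorem exists_nbhd_generic {T : Type*} [TopologicalSpace T] [CompactSpace T] {η : T}
    (hη : IsGenericPoint η Set.univ) {E : Set T} (hE : IsConstructible E) :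
    ∃ N : Set T, IsOpen N ∧ η ∈ N ∧ ∀ t ∈ N, (t ∈ E ↔ η ∈ E) := by
  induction hE using IsConstructible.empty_union_induction with
  | open_retrocompact U hUo _ =>
    by_cases h : η ∈ U
    · exact ⟨U, hUo, h, fun t ht => iff_of_true ht h⟩
    · refine ⟨Set.univ, isOpen_univ, trivial, fun t _ => iff_of_false (fun ht => h ?_) h⟩
      exact (hη.specializes (Set.mem_univ t)).mem_open hUo ht
  | union s _ t _ hs ht =>
    obtain ⟨N₁, h1, h1', e1⟩ := hs
    obtain ⟨N₂, h2, h2', e2⟩ := ht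
    exact ⟨N₁ ∩ N₂, h1.inter h2, ⟨h1', h2'⟩, fun z hz => or_congr (e1 z hz.1) (e2 z hz.2)⟩
  | compl s _ hs =>
    obtain ⟨N, h1, h1', e⟩ := hs
    exact ⟨N, h1, h1', fun z hz => not_congr (e z hz)⟩

theorem exists_locallyClosed [IsLocallyNoetherian Y] (f : X ⟶ Y) [LocallyOfFiniteType f]
    [QuasiCompact f] (η : Y) :
    ∃ V : Set Y, V ⊆ closure {η} ∧ η ∈ V ∧
      IsOpen (Subtype.val ⁻¹' V : Set ↑(closure ({η} : Set Y))) ∧
      ∀ y ∈ V, ((∀ x, f x = y → GRAt f x) ↔ ∀ x, f x = η → GRAt f x) := by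
  let J := Scheme.IdealSheafData.vanishingIdeal (⟨closure {η}, isClosed_closure⟩ : Closeds Y)
  let i := J.subschemeι
  have hr : Set.range i = closure {η} := by
    rw [Scheme.IdealSheafData.range_subschemeι, Scheme.IdealSheafData.coe_support_vanishingIdeal]
    rfl
  haveI : IsReduced J.subscheme := H75.RedSub.isReduced_vanishingIdeal _
  obtain ⟨η₀, hη₀⟩ := hr.symm.subset (subset_closure (Set.mem_singleton η))
  have hgen : IsGenericPoint η₀ (Set.univ : Set J.subscheme) := by
    show closure {η₀} = Set.univ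
    rw [i.isClosedEmbedding.isInducing.closure_eq_preimage_closure_image, Set.image_singleton,
      show i η₀ = η from hη₀, ← hr, Set.preimage_range]
  haveI : IrreducibleSpace J.subscheme := (irreducibleSpace_def _).2 hgen.isIrreducible
  haveI : IsIntegral J.subscheme := isIntegral_of_irreducibleSpace_of_isReduced _
  haveI : IsLocallyNoetherian J.subscheme := LocallyOfFiniteType.isLocallyNoetherian i
  let g := pullback.snd f i
  let O := Coh.structureModule (pullback f i)
  have hFP : SheafOfModules.IsFinitePresentation (R := (pullback f i).ringCatSheaf) O :=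
    H46.FibreProf.Unit.isFP_structureModule _
  haveI : O.IsQuasicoherent := inferInstance
  obtain ⟨V₀, hV₀, hflat⟩ := Lib.GenFree.generic_flatness g O
  have hη₀V : η₀ ∈ V₀ := (hgen.mem_open_set_iff V₀.2).2 (by simpa using hV₀)
  obtain ⟨U, hU, hηU, hUV⟩ := exists_isAffineOpen_mem_and_subset hη₀V
  haveI : IsAffine (U : Scheme.{u}) := hU
  haveI : IsLocallyNoetherian (U : Scheme.{u}) := isLocallyNoetherian_of_isOpenImmersion U.ι
  haveI : CompactSpace (U : Scheme.{u}) := isCompact_iff_compactSpace.mp hU.isCompact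
  haveI : IsNoetherian (U : Scheme.{u}) := ⟨⟩
  let gU := g ∣_ U
  haveI : QuasiCompact gU := IsZariskiLocalAtTarget.restrict (MorphismProperty.pullback_snd _ _ ‹_›) U
  haveI : LocallyOfFiniteType gU :=
    IsZariskiLocalAtTarget.restrict (MorphismProperty.pullback_snd _ _ ‹_›) U
  haveI : CompactSpace ↑(g ⁻¹ᵁ U : Scheme.{u}) := QuasiCompact.compactSpace_of_compactSpace gU
  haveI : IsLocallyNoetherian (g ⁻¹ᵁ U : Scheme.{u}) := LocallyOfFiniteType.isLocallyNoetherian gU
  haveI : IsNoetherian (g ⁻¹ᵁ U : Scheme.{u}) := ⟨⟩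
  haveI : Flat gU := by
    have h' : Flat ((g ⁻¹ᵁ U).ι ≫ g) := (Flat.iff_flat_stalkMap _).2 fun w => by
      rw [Scheme.Hom.stalkMap_comp]
      exact RingHom.Flat.comp (f := (g.stalkMap ((g ⁻¹ᵁ U).ι w)).hom)
        ((H46.FibreProf.Unit.isFlatOverAt_structureModule g _).1 (hflat _ (hUV w.2)))
        (RingHom.Flat.of_bijective (ConcreteCategory.bijective_of_isIso ((g ⁻¹ᵁ U).ι.stalkMap w)))
    have sq : IsPullback (𝟙 _) gU ((g ⁻¹ᵁ U).ι ≫ g) U.ι := by
      rw [← morphismRestrict_ι]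
      exact (IsPullback.id_horiz gU).paste_vert (IsKernelPair.id_of_mono U.ι)
    exact MorphismProperty.of_isPullback sq h'
  have hBo := H46.GRAtOpen.isOpen_grAt_of_flat gU
  haveI : LocallyOfFinitePresentation gU := inferInstance
  have hE : IsConstructible (gU '' {x | GRAt gU x}ᶜ) :=
    gU.isConstructible_image (IsConstructible.compl
      ((NoetherianSpace.isCompact _).isConstructible hBo))
  obtain ⟨N, hNo, hηN, hN⟩ := exists_nbhd_generic (T := ((U : Scheme.{u}) : Type u)) (η := (⟨η₀, hηU⟩ : (U : Scheme.{u}))) (by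
    show closure {_} = Set.univ
    rw [U.ι.isOpenEmbedding.isInducing.closure_eq_preimage_closure_image, Set.image_singleton,
      show U.ι ⟨η₀, hηU⟩ = η₀ from rfl, hgen.def, Set.preimage_univ]) hE
  obtain ⟨O', hO', hO'e⟩ := i.isClosedEmbedding.isInducing.isOpen_iff.1
    (U.ι.isOpenEmbedding.isOpenMap N hNo)
  have sq := (isPullback_morphismRestrict g U).flip.paste_horiz (IsPullback.of_hasPullback f i)
  have key : ∀ t : (U : Scheme.{u}),
      (∀ x, f x = (U.ι ≫ i) t → GRAt f x) ↔ t ∉ gU '' {x | GRAt gU x}ᶜ := fun t => by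
    rw [← forall_baseChange_iff sq t]
    exact ⟨fun h ⟨x, hx, hxt⟩ => hx (h x hxt), fun h x hxt => by
      by_contra hx; exact h ⟨x, hx, hxt⟩⟩
  refine ⟨i '' (U.ι '' N), by rw [← hr]; exact Set.image_subset_range _ _,
    ⟨η₀, ⟨_, hηN, rfl⟩, hη₀⟩, ?_, ?_⟩
  · have : (Subtype.val ⁻¹' (i '' (U.ι '' N)) : Set ↑(closure ({η} : Set Y))) =
        Subtype.val ⁻¹' O' := by
      ext ⟨z, hz⟩
      rw [← hr] at hz
      obtain ⟨w, rfl⟩ := hz
      simp only [Set.mem_preimage, i.isClosedEmbedding.injective.mem_set_image]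
      exact (Set.ext_iff.1 hO'e w).symm
    rw [this]
    exact hO'.preimage continuous_subtype_val
  · rintro _ ⟨_, ⟨t, ht, rfl⟩, rfl⟩
    have h1 := key t
    have h2 := key ⟨η₀, hηU⟩
    rw [show (U.ι ≫ i) (⟨η₀, hηU⟩ : (U : Scheme.{u})) = η from hη₀] at h2
    rw [h2]
    exact h1.trans (not_congr (hN t ht))

/-- The qcqs case. -/
theorem isLocallyConstructible_qs (f : X ⟶ Y) [LocallyOfFinitePresentation f] [QuasiCompact f]
    [QuasiSeparated f] : IsLocallyConstructible {y : Y | ∀ x, f x = y → GRAt f x} := by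
  intro y
  obtain ⟨U, hU, hyU, -⟩ := exists_isAffineOpen_mem_and_subset (U := ⊤) (x := y) trivial
  have : IsAffine (U : Scheme.{u}) := hU
  obtain ⟨AS⟩ := Lib.Lim.Approx.Main.exists_approx (S := (U : Scheme.{u}))
  have : CompactSpace ↑(f ⁻¹ᵁ U : Scheme.{u}) := QuasiCompact.compactSpace_of_compactSpace (f ∣_ U)
  have : QuasiSeparatedSpace ↑(f ⁻¹ᵁ U : Scheme.{u}) :=
    quasiSeparatedSpace_of_quasiSeparated (f ∣_ U)
  obtain ⟨i, Xi, fi, g, hXi, hXi', hfi, hsq⟩ :=
    Lib.Lim.FPDescend.exists_descent (c := AS.cone) AS.isLimit (f ∣_ U)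
  have : CompactSpace ↑(AS.D.obj i) := AS.compact _
  have : QuasiCompact fi := quasiCompact_of_compactSpace fi
  have : IsNoetherian (AS.D.obj i) := {}
  have hE : IsConstructible {z : ↑(AS.D.obj i) | ∀ x, fi x = z → GRAt fi x} :=
    H46.GeomSpread.isConstructible_of_locallyClosed _ fun η => exists_locallyClosed fi η
  refine ⟨U, U.2.mem_nhds hyU, U.2, ?_⟩
  let pr : (U : Scheme.{u}) ⟶ AS.D.obj i := AS.π.app i
  have h2 : IsConstructible (pr ⁻¹' {z : ↑(AS.D.obj i) | ∀ x, fi x = z → GRAt fi x}) :=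
    (H47.ConsPreimage.isLocallyConstructible_preimage pr hE.isLocallyConstructible).isConstructible
  have h3 : (Subtype.val ⁻¹' {y : Y | ∀ x, f x = y → GRAt f x} : Set ↑(U : Set Y)) =
      pr ⁻¹' {z : ↑(AS.D.obj i) | ∀ x, fi x = z → GRAt fi x} := by
    ext v
    exact ((forall_baseChange_iff (isPullback_morphismRestrict f U).flip v).symm).trans
      (forall_baseChange_iff hsq v)
  rw [h3]
  exact h2

/-- The general case. -/
theorem isLocallyConstructible (f : X ⟶ Y) [LocallyOfFinitePresentation f] [QuasiCompact f] :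
    IsLocallyConstructible {y : Y | GeometricallyReduced (f.fiberToSpecResidueField y)} := by
  simp only [geometricallyReduced_fiber_iff]
  intro y
  obtain ⟨U, hU, hyU, -⟩ := exists_isAffineOpen_mem_and_subset (U := ⊤) (x := y) trivial
  have : IsAffine (U : Scheme.{u}) := hU
  have : CompactSpace ↑(f ⁻¹ᵁ U : Scheme.{u}) := QuasiCompact.compactSpace_of_compactSpace (f ∣_ U)
  let 𝒰 := (f ⁻¹ᵁ U : Scheme.{u}).affineCover.finiteSubcover
  have hc : ∀ k, IsConstructible {t : (U : Scheme.{u}) |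
      ∀ x, (𝒰.f k ≫ f ∣_ U) x = t → GRAt (𝒰.f k ≫ f ∣_ U) x} := fun k => by
    have : IsAffine (𝒰.X k) := inferInstanceAs (IsAffine (Spec _))
    have : QuasiCompact (𝒰.f k ≫ f ∣_ U) := quasiCompact_of_compactSpace _
    exact (isLocallyConstructible_qs (𝒰.f k ≫ f ∣_ U)).isConstructible
  refine ⟨U, U.2.mem_nhds hyU, U.2, ?_⟩
  have h3 : (Subtype.val ⁻¹' {y : Y | ∀ x, f x = y → GRAt f x} : Set ↑(U : Set Y)) =
      ⋂ k, {t : (U : Scheme.{u}) | ∀ x, (𝒰.f k ≫ f ∣_ U) x = t → GRAt (𝒰.f k ≫ f ∣_ U) x} := by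
    ext v
    refine ((forall_baseChange_iff (isPullback_morphismRestrict f U).flip v).symm).trans ?_
    rw [Set.mem_iInter]
    refine ⟨fun h k x hx => (openImmersion_iff _ _ _).2 (h _ hx), fun h x hx => ?_⟩
    obtain ⟨k, z, rfl⟩ : ∃ k, ∃ z, 𝒰.f k z = x := ⟨_, 𝒰.covers x⟩
    exact (openImmersion_iff _ _ _).1 (h k z hx)
  rw [h3]
  exact IsConstructible.iInter hc

end Groth.Agent.H69.FibreLoci.GR
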