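import Groth.Agent.H69.RelDimLocus
import Mathlib.AlgebraicGeometry.Morphisms.FinitePresentation

/-!
# The level sets of the fibre dimension are locally constructible
-/

set_option autoImplicit false
set_option backward.isDefEq.respectTransparency false
universe u
open CategoryTheory CategoryTheory.Limits AlgebraicGeometry TopologicalSpace Topology
open Groth.Agent.Lib

namespace Groth.Agent.H69.FibreLoci.Dim

variable {X Y : Scheme.{u}} (f : X ⟶ Y)

theorem isLocallyConstructible_compl {S : Set Y} (hS : IsLocallyConstructible S) :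
    IsLocallyConstructible Sᶜ := fun y => by
  obtain ⟨U, hU, hUo, h⟩ := hS y
  exact ⟨U, hU, hUo, by rw [Set.preimage_compl]; exact h.compl⟩

theorem isLocallyConstructible_le [LocallyOfFinitePresentation f] [QuasiCompact f] (m : ℕ) :
    IsLocallyConstructible {y : Y | (m : WithBot ℕ∞) ≤ topologicalKrullDim ↥(f.fiber y)} := by
  rw [FibreDim.Global.setOf_le_fibre_dim_eq_image]
  refine f.isLocallyConstructible_image ?_
  match m with
  | 0 =>
    convert IsLocallyConstructible.univ (X := X)
    refine Set.eq_univ_of_forall fun x => ?_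
    obtain ⟨e, he⟩ := FibreDim.Chart.exists_fibreDimAt_eq f x
    show ((0 : ℕ) : WithBot ℕ∞) ≤ _
    rw [he]
    exact_mod_cast Nat.zero_le e
  | k + 1 =>
    have : {x : X | ((k + 1 : ℕ) : WithBot ℕ∞) ≤ FlatMor.fibreDimAt f x} =
        {x : X | FlatMor.fibreDimAt f x ≤ (k : WithBot ℕ∞)}ᶜ := by
      ext x
      obtain ⟨e, he⟩ := FibreDim.Chart.exists_fibreDimAt_eq f x
      change ((k + 1 : ℕ) : WithBot ℕ∞) ≤ FlatMor.fibreDimAt f x ↔ ¬ FlatMor.fibreDimAt f x ≤ (k : WithBot ℕ∞)
      rw [he]
      norm_cast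
      omega
    rw [this]
    exact isLocallyConstructible_compl (H69.RelDimLocus.isLocallyConstructible_setOf_fibreDimAt_le f k)

theorem exists_lt [LocallyOfFiniteType f] [QuasiCompact f] (y : Y) :
    ∃ m : ℕ, ¬ (m : WithBot ℕ∞) ≤ topologicalKrullDim ↥(f.fiber y) := by
  obtain ⟨U, hU, hyU, -⟩ := exists_isAffineOpen_mem_and_subset (X := Y) (x := y) (U := ⊤) trivial
  choose e he using FibreDim.Chart.exists_fibreDimAt_eq f
  obtain ⟨t, ht⟩ := (QuasiCompact.isCompact_preimage (f := f) _ U.2 hU.isCompact).elim_finite_subcover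
    (fun n : ℕ => {x : X | FlatMor.fibreDimAt f x ≤ (n : WithBot ℕ∞)})
    (fun n => FibreDim.Semicont.isOpen_setOf_fibreDimAt_le f _)
    (fun x _ => Set.mem_iUnion.2 ⟨e x, (he x).le⟩)
  refine ⟨t.sup id + 1, fun h => ?_⟩
  obtain ⟨x, hx, hm⟩ := (FibreDim.Global.le_topologicalKrullDim_fiber_iff f y _).1 h
  obtain ⟨n, hn, hxn⟩ := Set.mem_iUnion₂.1 (ht (show f x ∈ U from hx ▸ hyU))
  have h' : ((t.sup id + 1 : ℕ) : WithBot ℕ∞) ≤ (n : WithBot ℕ∞) := hm.trans hxn
  norm_cast at h'
  have := Finset.le_sup (f := id) hn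
  simp only [id] at this
  omega

theorem isLocallyConstructible_eq [LocallyOfFinitePresentation f] [QuasiCompact f] (n : WithBot ℕ∞) :
    IsLocallyConstructible {y : Y | topologicalKrullDim ↥(f.fiber y) = n} := by
  cases n with
  | bot =>
    convert isLocallyConstructible_compl (isLocallyConstructible_le f 0) using 1
    ext y
    change topologicalKrullDim ↥(f.fiber y) = _ ↔ ¬ ((0 : ℕ) : WithBot ℕ∞) ≤ topologicalKrullDim ↥(f.fiber y)
    generalize topologicalKrullDim ↥(f.fiber y) = d
    cases d <;> simp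
  | coe n =>
    cases n with
    | top =>
      convert IsLocallyConstructible.empty (X := Y)
      refine Set.eq_empty_of_forall_notMem fun y hy => ?_
      obtain ⟨m, hm⟩ := exists_lt f y
      exact hm ((hy : _ = _) ▸ (WithBot.coe_le_coe.2 le_top))
    | coe n =>
      convert (isLocallyConstructible_le f n).inter
        (isLocallyConstructible_compl (isLocallyConstructible_le f (n + 1))) using 1
      ext y
      change topologicalKrullDim ↥(f.fiber y) = _ ↔ (n : WithBot ℕ∞) ≤ topologicalKrullDim ↥(f.fiber y) ∧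
        ¬ ((n + 1 : ℕ) : WithBot ℕ∞) ≤ topologicalKrullDim ↥(f.fiber y)
      generalize topologicalKrullDim ↥(f.fiber y) = d
      cases d with
      | bot => simp
      | coe d =>
        cases d with
        | top =>
          simp only [WithBot.coe_inj]
          exact iff_of_false (ENat.top_ne_natCast n) fun h => h.2 (WithBot.coe_le_coe.2 le_top)
        | coe d => norm_cast; omega

end Groth.Agent.H69.FibreLoci.Dim
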