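import Groth.Agent.H69.FibreLoci.GR
import Groth.Agent.H69.FibreLoci.Dim

/-!
# Pointwise fibre properties which are open on the flat locus have locally constructible loci
-/

set_option autoImplicit false
set_option backward.isDefEq.respectTransparency false
universe u
open CategoryTheory CategoryTheory.Limits AlgebraicGeometry TopologicalSpace Topology
open Groth.Agent

namespace Groth.Agent.H69.FibreLoci.Pointwise

/-- A property of a point in its fibre, invariant under base change, local on the source, and open on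
the flat locus. -/
structure Good (P : ∀ ⦃X Y : Scheme.{u}⦄, (X ⟶ Y) → X → Prop) : Prop where
  baseChange : ∀ ⦃X Y X' Y' : Scheme.{u}⦄ (f : X ⟶ Y) (f' : X' ⟶ Y') (g' : X' ⟶ X) (g : Y' ⟶ Y)
    [LocallyOfFinitePresentation f], IsPullback g' f' f g → ∀ x', (P f' x' ↔ P f (g' x'))
  openImmersion : ∀ ⦃U X Y : Scheme.{u}⦄ (j : U ⟶ X) [IsOpenImmersion j] (f : X ⟶ Y)
    [LocallyOfFinitePresentation f] (x : U), P (j ≫ f) x ↔ P f (j x)
  isOpen : ∀ ⦃X Y : Scheme.{u}⦄ (f : X ⟶ Y) [LocallyOfFinitePresentation f] [Flat f],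
    IsOpen {x | P f x}

variable {P : ∀ ⦃X Y : Scheme.{u}⦄, (X ⟶ Y) → X → Prop}

theorem Good.exists_locallyClosed (hP : Good P) {X Y : Scheme.{u}} [IsLocallyNoetherian Y]
    (f : X ⟶ Y) [LocallyOfFiniteType f] [QuasiCompact f] (ξ : X) :
    ∃ V : Set X, V ⊆ closure {ξ} ∧ ξ ∈ V ∧
      IsOpen (Subtype.val ⁻¹' V : Set ↑(closure ({ξ} : Set X))) ∧ ∀ x ∈ V, (P f x ↔ P f ξ) := by
  have : LocallyOfFinitePresentation f := H46.FibreDimNhd.locallyOfFinitePresentation f
  let J := Scheme.IdealSheafData.vanishingIdeal (⟨closure {f ξ}, isClosed_closure⟩ : Closeds Y)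
  let i := J.subschemeι
  have hr : Set.range i = closure {f ξ} := by
    rw [Scheme.IdealSheafData.range_subschemeι, Scheme.IdealSheafData.coe_support_vanishingIdeal]
    rfl
  have : IsReduced J.subscheme := H75.RedSub.isReduced_vanishingIdeal _
  obtain ⟨η₀, hη₀⟩ := hr.symm.subset (subset_closure (Set.mem_singleton (f ξ)))
  have hgen : IsGenericPoint η₀ (Set.univ : Set J.subscheme) := by
    show closure {η₀} = Set.univ
    rw [i.isClosedEmbedding.isInducing.closure_eq_preimage_closure_image, Set.image_singleton,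
      show i η₀ = f ξ from hη₀, ← hr, Set.preimage_range]
  have : IrreducibleSpace J.subscheme := (irreducibleSpace_def _).2 hgen.isIrreducible
  have : IsIntegral J.subscheme := isIntegral_of_irreducibleSpace_of_isReduced _
  have : IsLocallyNoetherian J.subscheme := LocallyOfFiniteType.isLocallyNoetherian i
  let g := pullback.snd f i
  let O := Coh.structureModule (pullback f i)
  have hFP : SheafOfModules.IsFinitePresentation (R := (pullback f i).ringCatSheaf) O :=
    H46.FibreProf.Unit.isFP_structureModule _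
  have : O.IsQuasicoherent := inferInstance
  obtain ⟨V₀, hV₀, hflat⟩ := Lib.GenFree.generic_flatness g O
  have hη₀V : η₀ ∈ V₀ := (hgen.mem_open_set_iff V₀.2).2 (by simpa using hV₀)
  obtain ⟨OU, hOU, hOUe⟩ := i.isClosedEmbedding.isInducing.isOpen_iff.1 V₀.2
  let gU := g ∣_ V₀
  have : LocallyOfFiniteType gU :=
    IsZariskiLocalAtTarget.restrict (MorphismProperty.pullback_snd _ _ ‹_›) V₀
  have : IsLocallyNoetherian (V₀ : Scheme.{u}) := isLocallyNoetherian_of_isOpenImmersion V₀.ι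
  have : LocallyOfFinitePresentation gU := H46.FibreDimNhd.locallyOfFinitePresentation gU
  have : Flat gU := by
    have h' : Flat ((g ⁻¹ᵁ V₀).ι ≫ g) := (Flat.iff_flat_stalkMap _).2 fun w => by
      rw [Scheme.Hom.stalkMap_comp]
      exact RingHom.Flat.comp (f := (g.stalkMap ((g ⁻¹ᵁ V₀).ι w)).hom)
        ((H46.FibreProf.Unit.isFlatOverAt_structureModule g _).1 (hflat _ w.2))
        (RingHom.Flat.of_bijective (ConcreteCategory.bijective_of_isIso ((g ⁻¹ᵁ V₀).ι.stalkMap w)))
    have sq : IsPullback (𝟙 _) gU ((g ⁻¹ᵁ V₀).ι ≫ g) V₀.ι := by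
      rw [← morphismRestrict_ι]
      exact (IsPullback.id_horiz gU).paste_vert (IsKernelPair.id_of_mono V₀.ι)
    exact MorphismProperty.of_isPullback sq h'
  have sq := (isPullback_morphismRestrict g V₀).flip.paste_horiz (IsPullback.of_hasPullback f i)
  let q := (g ⁻¹ᵁ V₀).ι ≫ pullback.fst f i
  have hq : IsPullback q gU f (V₀.ι ≫ i) := sq
  have : IsPreimmersion q := MorphismProperty.of_isPullback hq.flip
    (inferInstanceAs (IsPreimmersion (V₀.ι ≫ i)))
  have hind : IsInducing q := q.isEmbedding.isInducing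
  have hlift : ∀ x ∈ closure ({ξ} : Set X), f x ∈ OU → ∃ w, q w = x := by
    intro x hx hxU
    obtain ⟨t, ht⟩ := hr.symm.subset ((specializes_iff_mem_closure.2 hx).map f.continuous).mem_closure
    have htV : t ∈ V₀ := (Set.ext_iff.1 hOUe t).1 (show i t ∈ OU from ht.symm ▸ hxU)
    obtain ⟨z, hz, -⟩ := Scheme.exists_preimage_of_isPullback hq x ⟨t, htV⟩ ht.symm
    exact ⟨z, hz⟩
  have hξU : f ξ ∈ OU := hη₀ ▸ (Set.ext_iff.1 hOUe η₀).2 hη₀V
  obtain ⟨w₀, hw₀⟩ := hlift ξ (subset_closure rfl) hξU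
  have hO : IsOpen {w | P gU w} := hP.isOpen gU
  have hPq : ∀ w, P gU w ↔ P f (q w) := fun w => hP.baseChange f gU q _ hq w
  by_cases hξ : P f ξ
  · obtain ⟨O', hO', hO'e⟩ := hind.isOpen_iff.1 hO
    refine ⟨closure {ξ} ∩ (O' ∩ f ⁻¹' OU), Set.inter_subset_left,
      ⟨subset_closure rfl, ?_, hξU⟩, ?_, ?_⟩
    · exact hw₀ ▸ (Set.ext_iff.1 hO'e w₀).2 ((hPq w₀).2 (hw₀.symm ▸ hξ))
    · rw [show (Subtype.val ⁻¹' (closure {ξ} ∩ (O' ∩ f ⁻¹' OU)) : Set ↑(closure ({ξ} : Set X))) =
        Subtype.val ⁻¹' (O' ∩ f ⁻¹' OU) by ext z; exact and_iff_right z.2]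
      exact (hO'.inter (hOU.preimage f.continuous)).preimage continuous_subtype_val
    · rintro x ⟨hx, hxO, hxU⟩
      obtain ⟨w, rfl⟩ := hlift x hx hxU
      exact iff_of_true ((hPq w).1 ((Set.ext_iff.1 hO'e w).1 hxO)) hξ
  · refine ⟨closure {ξ} ∩ f ⁻¹' OU, Set.inter_subset_left, ⟨subset_closure rfl, hξU⟩, ?_, ?_⟩
    · rw [show (Subtype.val ⁻¹' (closure {ξ} ∩ f ⁻¹' OU) : Set ↑(closure ({ξ} : Set X))) =
        Subtype.val ⁻¹' (f ⁻¹' OU) by ext z; exact and_iff_right z.2]
      exact (hOU.preimage f.continuous).preimage continuous_subtype_val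
    · rintro x ⟨hx, hxU⟩
      obtain ⟨w, rfl⟩ := hlift x hx hxU
      refine iff_of_false (fun h => hξ ?_) hξ
      have hs : w₀ ⤳ w := hind.specializes_iff.1 (hw₀.symm ▸ specializes_iff_mem_closure.2 hx)
      exact hw₀ ▸ (hPq w₀).1 (hs.mem_open hO ((hPq w).2 h))

theorem Good.isLocallyConstructible (hP : Good P) {X Y : Scheme.{u}} (f : X ⟶ Y)
    [LocallyOfFinitePresentation f] : IsLocallyConstructible {x : X | P f x} := by
  intro x
  obtain ⟨U, hU, hxU, -⟩ := exists_isAffineOpen_mem_and_subset (U := ⊤) (x := f x) trivial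
  obtain ⟨W, hW, hxW, hWU⟩ := exists_isAffineOpen_mem_and_subset (X := X) (U := f ⁻¹ᵁ U) hxU
  have : IsAffine (U : Scheme.{u}) := hU
  have : IsAffine (W : Scheme.{u}) := hW
  let f' := f.resLE U W hWU
  have hf' : f' ≫ U.ι = W.ι ≫ f := Scheme.Hom.resLE_comp_ι _ _
  obtain ⟨AS⟩ := Lib.Lim.Approx.Main.exists_approx (S := (U : Scheme.{u}))
  obtain ⟨i, Xi, fi, g, hXi, hXi', hfi, hsq⟩ :=
    Lib.Lim.FPDescend.exists_descent (c := AS.cone) AS.isLimit f'
  have : CompactSpace ↑(AS.D.obj i) := AS.compact _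
  have : QuasiCompact fi := quasiCompact_of_compactSpace fi
  have : IsNoetherian (AS.D.obj i) := {}
  have : IsLocallyNoetherian Xi := LocallyOfFiniteType.isLocallyNoetherian fi
  have : IsNoetherian Xi := {}
  have hE : IsConstructible {z : Xi | P fi z} :=
    H46.GeomSpread.isConstructible_of_locallyClosed _ fun ξ => hP.exists_locallyClosed fi ξ
  refine ⟨W, W.2.mem_nhds hxW, W.2, ?_⟩
  have h2 : IsConstructible (⇑g ⁻¹' {z : Xi | P fi z}) :=
    (H47.ConsPreimage.isLocallyConstructible_preimage g hE.isLocallyConstructible).isConstructible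
  have sqU : IsPullback (𝟙 _) f' (f' ≫ U.ι) U.ι :=
    (IsPullback.id_horiz f').paste_vert (IsKernelPair.id_of_mono U.ι)
  have h3 : (Subtype.val ⁻¹' {z : X | P f z} : Set ↑(W : Set X)) = ⇑g ⁻¹' {z : Xi | P fi z} := by
    ext v
    refine Iff.trans ?_ (hP.baseChange fi f' g _ hsq v)
    have : LocallyOfFinitePresentation (f' ≫ U.ι) := inferInstance
    refine ((hP.openImmersion W.ι f v).symm.trans ?_)
    rw [← hf']
    exact (hP.baseChange (f' ≫ U.ι) f' (𝟙 _) U.ι sqU v).symm
  rw [h3]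
  exact h2

theorem Good.isLocallyConstructible_forall (hP : Good P) {X Y : Scheme.{u}} (f : X ⟶ Y)
    [LocallyOfFinitePresentation f] [QuasiCompact f] :
    IsLocallyConstructible {y : Y | ∀ x, f x = y → P f x} := by
  have key : {y : Y | ∀ x, f x = y → P f x} = (⇑f '' {x | P f x}ᶜ)ᶜ := by
    ext y
    exact ⟨fun h ⟨x, hx, hxy⟩ => hx (h x hxy), fun h x hxy => by
      by_contra hx; exact h ⟨x, hx, hxy⟩⟩
  rw [key]
  exact Dim.isLocallyConstructible_compl
    (f.isLocallyConstructible_image (Dim.isLocallyConstructible_compl (hP.isLocallyConstructible f)))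

end Groth.Agent.H69.FibreLoci.Pointwise
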