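import Groth.Agent.H69.FibreLoci.Refine
import Groth.Agent.H69.FibreLoci.Dim
import Groth.Agent.H69.FibreLoci.GR
import Groth.Agent.H2.FibreDimPullback

/-!
# Noetherian models with prescribed fibres
-/

set_option autoImplicit false
set_option backward.isDefEq.respectTransparency false
universe u
open CategoryTheory CategoryTheory.Limits AlgebraicGeometry TopologicalSpace Topology
open Groth.Agent

namespace Groth.Agent.H69.FibreLoci.Approx

/-- Models with a prescribed fibrewise property. -/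
theorem exists_model (P : ∀ {X Y : Scheme.{u}}, (X ⟶ Y) → Y → Prop)
    (hbc : ∀ {X Y X' Y' : Scheme.{u}} (f : X ⟶ Y) (f' : X' ⟶ Y') (g' : X' ⟶ X) (g : Y' ⟶ Y)
      [LocallyOfFinitePresentation f],
      IsPullback g' f' f g → ∀ y', (P f' y' ↔ P f (g y')))
    (hcons : ∀ {X Y : Scheme.{u}} (f : X ⟶ Y) [LocallyOfFinitePresentation f] [QuasiCompact f]
      [QuasiSeparated f], IsLocallyConstructible {y : Y | P f y})
    {X S : Scheme.{u}} (f : X ⟶ S) [IsAffine X] [IsAffine S] [LocallyOfFinitePresentation f]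
    (hf : ∀ s, P f s) :
    ∃ (X₀ S₀ : Scheme.{u}) (f₀ : X₀ ⟶ S₀) (g : S ⟶ S₀) (g' : X ⟶ X₀), IsAffine X₀ ∧ IsAffine S₀ ∧
      IsPullback g' f f₀ g ∧ Algebra.FiniteType ℤ Γ(S₀, ⊤) ∧ LocallyOfFiniteType f₀ ∧
        ∀ s₀, P f₀ s₀ := by
  obtain ⟨X₁, S₁, f₁, g₁, g₁', hX₁, hS₁, h₁, hft, hlft, -⟩ :=
    H19.FlatLocus.Model.exists_scheme_model f
  have : IsNoetherianRing Γ(S₁, ⊤) := Algebra.FiniteType.isNoetherianRing ℤ _
  have : IsLocallyNoetherian S₁ := isLocallyNoetherian_of_isOpenImmersion S₁.isoSpec.hom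
  have := H46.FibreDimNhd.locallyOfFinitePresentation f₁
  have hE : IsConstructible {y : S₁ | P f₁ y} := (hcons f₁).isConstructible
  obtain ⟨X₀, S₀, f₀, g, g', ρ, ρ', hX₀, hS₀, hsq, hft₀, hlft₀, hρ, hall⟩ :=
    Refine.exists_refine f f₁ g₁ g₁' h₁ hft _ hE fun s => (hbc f₁ f g₁' g₁ h₁ s).1 (hf s)
  exact ⟨X₀, S₀, f₀, g, g', hX₀, hS₀, hsq, hft₀, hlft₀,
    fun s₀ => (hbc f₁ f₀ ρ' ρ hρ s₀).2 (hall s₀)⟩

theorem dim_baseChange {X Y X' Y' : Scheme.{u}} (f : X ⟶ Y) (f' : X' ⟶ Y') (g' : X' ⟶ X)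
    (g : Y' ⟶ Y) [LocallyOfFiniteType f] (sq : IsPullback g' f' f g) (y' : Y') :
    topologicalKrullDim ↥(f'.fiber y') = topologicalKrullDim ↥(f.fiber (g y')) := by
  have : LocallyOfFiniteType f' := MorphismProperty.of_isPullback sq ‹_›
  have key : ∀ m : ℕ, (m : WithBot ℕ∞) ≤ topologicalKrullDim ↥(f'.fiber y') ↔
      (m : WithBot ℕ∞) ≤ topologicalKrullDim ↥(f.fiber (g y')) := fun m => by
    rw [Lib.FibreDim.Global.le_topologicalKrullDim_fiber_iff,
      Lib.FibreDim.Global.le_topologicalKrullDim_fiber_iff]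
    constructor
    · rintro ⟨x', hx', hm⟩
      refine ⟨g' x', ?_, (Groth.Agent.H2.FibreDimPullback.fibreDimAt_of_isPullback sq x') ▸ hm⟩
      rw [← hx', ← Scheme.Hom.comp_apply, sq.w, Scheme.Hom.comp_apply]
    · rintro ⟨x, hx, hm⟩
      obtain ⟨z, hz1, hz2⟩ := Scheme.Pullback.exists_preimage_pullback (f := f) (g := g) x y' hx
      refine ⟨sq.isoPullback.inv z, ?_, ?_⟩
      · rw [← Scheme.Hom.comp_apply, sq.isoPullback_inv_snd, hz2]
      · rw [Groth.Agent.H2.FibreDimPullback.fibreDimAt_of_isPullback sq, ← Scheme.Hom.comp_apply,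
          sq.isoPullback_inv_fst, hz1]
        exact hm
  revert key
  generalize topologicalKrullDim ↥(f'.fiber y') = a
  generalize topologicalKrullDim ↥(f.fiber (g y')) = b
  intro key
  cases a with
  | bot => cases b with
    | bot => rfl
    | coe b => simpa using (key 0).2 (WithBot.coe_le_coe.2 zero_le)
  | coe a => cases b with
    | bot => simpa using (key 0).1 (WithBot.coe_le_coe.2 zero_le)
    | coe b =>
      congr 1
      exact eq_of_forall_le_iff fun m => by
        cases m with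
        | top =>
          constructor <;> intro h <;> refine (ENat.eq_top_iff_forall_ge.2 fun n => ?_).ge
          · exact WithBot.coe_le_coe.1 ((key n).1 (WithBot.coe_le_coe.2 (le_trans le_top h)))
          · exact WithBot.coe_le_coe.1 ((key n).2 (WithBot.coe_le_coe.2 (le_trans le_top h)))
        | coe m =>
          exact WithBot.coe_le_coe.symm.trans ((key m).trans WithBot.coe_le_coe)

end Groth.Agent.H69.FibreLoci.Approx
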