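import Groth.Agent.H69.FibreLoci.Pointwise
import Groth.Agent.H54.CMAffine
import Groth.Agent.H54.CMBaseChange

/-!
# The locus of Cohen–Macaulay fibres is locally constructible
-/

set_option autoImplicit false
set_option backward.isDefEq.respectTransparency false
universe u
open CategoryTheory CategoryTheory.Limits AlgebraicGeometry TopologicalSpace Topology IsLocalRing
open Groth.Agent LocCoh

namespace Groth.Agent.H69.FibreLoci.CM

variable {X Y : Scheme.{u}}

/-- The fibre through `x` is Cohen–Macaulay at `x`. -/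
def CMFib ⦃X Y : Scheme.{u}⦄ (f : X ⟶ Y) (x : X) : Prop :=
  IsCohenMacaulayLocalRing (X.presheaf.stalk x ⧸
    (maximalIdeal (Y.presheaf.stalk (f x))).map (f.stalkMap x).hom)

theorem cmFib_iff_stalk (f : X ⟶ Y) (y : Y) (a : f.fiber y) :
    CMFib f (f.fiberι y a) ↔ IsCohenMacaulayLocalRing ((f.fiber y).presheaf.stalk a) := by
  have hy : f (f.fiberι y a) = y := (Scheme.Hom.range_fiberι f y).subset ⟨a, rfl⟩
  obtain ⟨x, hx⟩ : ∃ x, f.fiberι y a = x := ⟨_, rfl⟩
  rw [hx] at hy ⊢
  subst hy
  obtain rfl : a = f.asFiber x :=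
    (f.fiberι (f x)).isEmbedding.injective (hx.trans (f.fiberι_asFiber x).symm)
  unfold CMFib
  exact ⟨fun h => Lib.Excellent.Transport.isCohenMacaulayLocalRing_of_ringEquiv
      (H46.FiberStalk.quotientEquiv f x),
    fun h => Lib.Excellent.Transport.isCohenMacaulayLocalRing_of_ringEquiv
      (H46.FiberStalk.quotientEquiv f x).symm⟩

theorem isCMAt_field_iff {K : Type u} [Field K] {F : Scheme.{u}} (p : F ⟶ Spec (CommRingCat.of K))
    (a : F) : MoreMor.IsCMAt p a ↔
      (p.stalkMap a).hom.Flat ∧ IsCohenMacaulayLocalRing (F.presheaf.stalk a) := by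
  rw [H54.CMMor.isCMAt_iff]
  have hbot : (maximalIdeal ((Spec (CommRingCat.of K)).presheaf.stalk (p a))).map (p.stalkMap a).hom = ⊥ := by
    rw [Ideal.map_eq_bot_iff_le_ker]
    intro r hr
    exact H46.FiberStalk.stalkMap_eq_zero_of_factor_field (CommRingCat.of K) (Field.toIsField K) p
      (𝟙 _) p (Category.comp_id p).symm a r hr
  refine and_congr_right' ⟨fun h => ?_, fun h => ?_⟩
  · exact Lib.Excellent.Transport.isCohenMacaulayLocalRing_of_ringEquiv
      ((Ideal.quotEquivOfEq hbot).trans (RingEquiv.quotientBot _))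
  · exact Lib.Excellent.Transport.isCohenMacaulayLocalRing_of_ringEquiv
      ((Ideal.quotEquivOfEq hbot).trans (RingEquiv.quotientBot _)).symm

theorem cmFib_iff_fibre (f : X ⟶ Y) [LocallyOfFinitePresentation f] (y : Y) (a : f.fiber y) :
    CMFib f (f.fiberι y a) ↔ MoreMor.IsCMAt (f.fiberToSpecResidueField y) a := by
  rw [cmFib_iff_stalk]
  exact ((isCMAt_field_iff (K := Y.residueField y) (f.fiberToSpecResidueField y) a).trans
    (and_iff_right (Flat.stalkMap _ a))).symm

theorem good : Pointwise.Good (CMFib.{u}) where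
  baseChange X Y X' Y' f f' g' g _ sq x' := by
    have : LocallyOfFinitePresentation f' := MorphismProperty.of_isPullback sq inferInstance
    let y' := f' x'
    have hsq := isPullback_fiberToSpecResidueField_of_isPullback sq y'
    let m := pullback.map f' (Y'.fromSpecResidueField y') f (Y.fromSpecResidueField (g y')) g'
      (Spec.map (g.residueFieldMap y')) g sq.w.symm (by simp)
    let a' := f'.asFiber x'
    have hm : f.fiberι (g y') (m a') = g' x' := by
      have e : m ≫ pullback.fst f _ = pullback.fst f' _ ≫ g' := pullback.lift_fst _ _ _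
      have h2 : f'.fiberι y' a' = x' := f'.fiberι_asFiber x'
      rw [← h2]
      exact congr($e a')
    rw [← f'.fiberι_asFiber x']
    rw [cmFib_iff_fibre f' y' a', f'.fiberι_asFiber x', ← hm, cmFib_iff_fibre f (g y') (m a')]
    have : LocallyOfFinitePresentation (f.fiberToSpecResidueField (g y')) :=
      MorphismProperty.pullback_snd _ _ inferInstance
    exact ⟨fun h => H54.CMBaseChange.isCMAt_of_baseChange hsq a' h,
      fun h => H54.CMBaseChange.isCMAt_baseChange hsq a' h⟩
  openImmersion U X Y j _ f _ x := by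
    have h1 := H54.CMMor.isCMAt_iff (j ≫ f) x
    let e := (asIso (j.stalkMap x)).commRingCatIsoToRingEquiv
    have hh : (j ≫ f).stalkMap x = f.stalkMap (j x) ≫ j.stalkMap x := Scheme.Hom.stalkMap_comp _ _ _
    have hI : ((maximalIdeal (Y.presheaf.stalk ((j ≫ f) x))).map ((j ≫ f).stalkMap x).hom) =
        ((maximalIdeal (Y.presheaf.stalk (f (j x)))).map (f.stalkMap (j x)).hom).map
          (e : X.presheaf.stalk (j x) →+* U.presheaf.stalk x) := by
      rw [Ideal.map_map, hh]
      rfl
    let eq := Ideal.quotientEquiv _ _ e hI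
    unfold CMFib
    exact ⟨fun h => Lib.Excellent.Transport.isCohenMacaulayLocalRing_of_ringEquiv (R := U.presheaf.stalk x ⧸ _) eq.symm,
      fun h => Lib.Excellent.Transport.isCohenMacaulayLocalRing_of_ringEquiv (R := X.presheaf.stalk (j x) ⧸ _) eq⟩
  isOpen X Y f _ _ := by
    have e : {x : X | CMFib f x} = {x : X | MoreMor.IsCMAt f x} := by
      ext x
      exact ((H54.CMMor.isCMAt_iff f x).trans (and_iff_right (Flat.stalkMap f x))).symm
    rw [e]
    exact H54.CMAffine.isOpen_setOf_isCMAt f

end Groth.Agent.H69.FibreLoci.CM
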