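import Groth.Agent.H69.FibreLoci.Loci
import Groth.Agent.H46.FibreDimNhd

/-!
# Dimensions of the components of a locally closed subset of a fibre
-/

set_option autoImplicit false
set_option linter.style.haveILetI false
universe u
open CategoryTheory AlgebraicGeometry Topology TopologicalSpace
open Groth.Agent.H46.FibreTrdeg Groth.Agent.H46.FibreProf Groth.Agent.H46.FibreProf.Basic
open Groth.Agent.H69.FibreLoci.Loci Groth.Agent.Lib

namespace Groth.Agent.H69.FibreLoci.Comps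

variable {X S : Scheme.{u}} (f : X ⟶ S) [LocallyOfFinitePresentation f]

/-- The trace of an open set on the closure of a point in its fibre has full dimension. -/
theorem dim_closure_inter_open (b : X) (O : X.Opens) (hb : b ∈ O) :
    topologicalKrullDim ↥((closure ({b} : Set X) ∩ O) ∩ f ⁻¹' {f b}) = (trd f b : WithBot ℕ∞) := by
  let J := Scheme.IdealSheafData.vanishingIdeal (⟨closure {b}, isClosed_closure⟩ : Closeds X)
  let i := (J.subschemeι ⁻¹ᵁ O).ι ≫ J.subschemeι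
  have hr : Set.range i = closure ({b} : Set X) ∩ O := by
    have h1 : Set.range J.subschemeι = closure ({b} : Set X) := by
      rw [Scheme.IdealSheafData.range_subschemeι, Scheme.IdealSheafData.coe_support_vanishingIdeal]
      rfl
    ext x
    constructor
    · rintro ⟨w, rfl⟩
      exact ⟨h1.subset ⟨_, rfl⟩, w.2⟩
    · rintro ⟨hx, hxO⟩
      obtain ⟨v, rfl⟩ := h1.symm.subset hx
      exact ⟨⟨v, hxO⟩, rfl⟩
  have : Nonempty ↥((closure ({b} : Set X) ∩ O) ∩ f ⁻¹' {f b}) :=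
    ⟨⟨b, ⟨subset_closure rfl, hb⟩, rfl⟩⟩
  refine eq_natCast_of_le_iff topologicalKrullDim_ne_bot fun m => ?_
  rw [← hr, dim_range_inter_le_iff f i, hr]
  exact ⟨fun h => h b ⟨subset_closure rfl, hb⟩ rfl,
    fun h a ha hfa => (trd_le f (specializes_iff_mem_closure.2 ha.1) hfa.symm).trans h⟩

variable {Z : Set X} (s : S)
  (hZs : IsLocallyClosed (Subtype.val ⁻¹' Z : Set ↥(⇑f ⁻¹' {s})))

include hZs

theorem exists_open : ∃ (O : X.Opens) (C : Set X), IsClosed C ∧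
    ∀ x, f x = s → (x ∈ Z ↔ x ∈ O ∧ x ∈ C) := by
  obtain ⟨U, C, hU, hC, h⟩ := hZs
  obtain ⟨U', hU', rfl⟩ := isOpen_induced_iff.1 hU
  obtain ⟨C', hC', rfl⟩ := isClosed_induced_iff.1 hC
  exact ⟨⟨U', hU'⟩, C', hC', fun x hx => Set.ext_iff.1 h ⟨x, hx⟩⟩

theorem dim_closure_point (b : ↥(Z ∩ ⇑f ⁻¹' {s})) :
    topologicalKrullDim ↥(closure ({b} : Set ↥(Z ∩ ⇑f ⁻¹' {s}))) = (trd f b.1 : WithBot ℕ∞) := by
  obtain ⟨O, C, hC, hOC⟩ := exists_open f s hZs
  have hfb : f b.1 = s := b.2.2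
  have hcl : ∀ a : ↥(Z ∩ ⇑f ⁻¹' {s}), a ∈ closure ({b} : Set ↥(Z ∩ ⇑f ⁻¹' {s})) ↔
      a.1 ∈ closure ({b.1} : Set X) := fun a => by
    rw [IsInducing.subtypeVal.closure_eq_preimage_closure_image, Set.image_singleton]; rfl
  have e : Subtype.val '' closure ({b} : Set ↥(Z ∩ ⇑f ⁻¹' {s})) =
      (closure ({b.1} : Set X) ∩ O) ∩ f ⁻¹' {f b.1} := by
    ext x
    constructor
    · rintro ⟨a, ha, rfl⟩
      exact ⟨⟨(hcl a).1 ha, ((hOC _ a.2.2).1 a.2.1).1⟩, (a.2.2 : f a.1 = s).trans hfb.symm⟩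
    · rintro ⟨⟨hx, hxO⟩, hxs⟩
      have hxs' : f x = s := (hxs : f x = f b.1).trans hfb
      have hxZ : x ∈ Z := (hOC x hxs').2
        ⟨hxO, (specializes_iff_mem_closure.2 hx).mem_closed hC ((hOC _ hfb).1 b.2.1).2⟩
      exact ⟨⟨x, hxZ, hxs'⟩, (hcl _).2 hx, rfl⟩
  rw [← dim_closure_inter_open f b.1 O ((hOC _ hfb).1 b.2.1).1, ← e]
  exact IsHomeomorph.topologicalKrullDim_eq _
    ((IsEmbedding.subtypeVal (p := (· ∈ Z ∩ ⇑f ⁻¹' {s}))).homeomorphImage _).isHomeomorph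

theorem exists_genericPoint {C : Set ↥(Z ∩ ⇑f ⁻¹' {s})}
    (hC : C ∈ irreducibleComponents ↥(Z ∩ ⇑f ⁻¹' {s})) : ∃ b, closure {b} = C := by
  obtain ⟨O, D, hD, hOD⟩ := exists_open f s hZs
  haveI : QuasiSober ↥(⇑f ⁻¹' {s}) := (f.fiberHomeo s).symm.isClosedEmbedding.quasiSober
  let ι : ↥(Z ∩ ⇑f ⁻¹' {s}) → ↥(⇑f ⁻¹' {s}) := fun a => ⟨a.1, a.2.2⟩
  have hι : IsInducing ι := IsInducing.subtypeVal.of_comp_iff.1 IsInducing.subtypeVal
  have hi : IsIrreducible (ι '' C) := hC.1.image _ hι.continuous.continuousOn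
  let g := hi.genericPoint
  have hg : closure {g} = closure (ι '' C) := hi.genericPoint_closure_eq
  obtain ⟨c, hc⟩ := hC.1.nonempty
  have hgc : g ⤳ ι c := specializes_iff_mem_closure.2 (hg ▸ subset_closure ⟨c, hc, rfl⟩)
  have hgO : g.1 ∈ O := (hgc.map continuous_subtype_val).mem_open O.2 ((hOD _ c.2.2).1 c.2.1).1
  have hgD : g.1 ∈ D := by
    have h1 : ι '' C ⊆ Subtype.val ⁻¹' D := by
      rintro _ ⟨a, -, rfl⟩
      exact ((hOD _ a.2.2).1 a.2.1).2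
    exact closure_minimal h1 (hD.preimage continuous_subtype_val) (hg ▸ subset_closure rfl)
  let b : ↥(Z ∩ ⇑f ⁻¹' {s}) := ⟨g.1, (hOD _ g.2).2 ⟨hgO, hgD⟩, g.2⟩
  refine ⟨b, ?_⟩
  have hsub : C ⊆ closure {b} := fun a ha =>
    specializes_iff_mem_closure.1 (hι.specializes_iff.1
      (specializes_iff_mem_closure.2 (hg.symm.subset (subset_closure ⟨a, ha, rfl⟩)) : g ⤳ ι a))
  exact Set.Subset.antisymm (hC.2 isIrreducible_singleton.closure hsub) hsub

theorem comps_eq : (fun T : Set ↥(Z ∩ ⇑f ⁻¹' {s}) => topologicalKrullDim ↥T) ''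
      irreducibleComponents ↥(Z ∩ ⇑f ⁻¹' {s}) =
    (fun n : ℕ => (n : WithBot ℕ∞)) '' {d | s ∈ HasMax f Z d} := by
  apply Set.Subset.antisymm
  · rintro _ ⟨C, hC, rfl⟩
    obtain ⟨b, rfl⟩ := exists_genericPoint f s hZs hC
    refine ⟨trd f b.1, ⟨b.1, b.2.1, b.2.2, rfl, fun w hw hwb => ?_⟩, (dim_closure_point f s hZs b).symm⟩
    let w' : ↥(Z ∩ ⇑f ⁻¹' {s}) := ⟨w, hw, hwb.1.trans b.2.2⟩
    have hsub : closure {b} ⊆ closure {w'} := closure_minimal
      (Set.singleton_subset_iff.2 (IsInducing.subtypeVal.specializes_iff.1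
        (show Subtype.val w' ⤳ Subtype.val b from hwb.2)).mem_closure) isClosed_closure
    have hle := hC.2 isIrreducible_singleton.closure hsub
    have h2 : b ⤳ w' := specializes_iff_mem_closure.2 (hle (subset_closure rfl))
    exact eq_of_trd_le f hwb.2 hwb.1 (trd_le f (h2.map continuous_subtype_val) hwb.1.symm)
  · rintro _ ⟨d, ⟨θ, hθ, hs, rfl, hmax⟩, rfl⟩
    let b : ↥(Z ∩ ⇑f ⁻¹' {s}) := ⟨θ, hθ, hs⟩
    refine ⟨closure {b}, ?_, dim_closure_point f s hZs b⟩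
    obtain ⟨C, hC, hbC⟩ :=
      exists_mem_irreducibleComponents_subset_of_isIrreducible _ (isIrreducible_singleton (x := b))
    obtain ⟨b', rfl⟩ := exists_genericPoint f s hZs hC
    have h1 : b' ⤳ b := specializes_iff_mem_closure.2 (hbC rfl)
    have h2 : b' = b := Subtype.ext (hmax b'.1 b'.2.1
      ⟨(b'.2.2 : f b'.1 = s).trans hs.symm, h1.map continuous_subtype_val⟩)
    exact h2 ▸ hC

end Groth.Agent.H69.FibreLoci.Comps
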