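import Groth.Agent.H69.FibreLoci.Pointwise
import Groth.Agent.S9769
import Groth.Agent.Lib.RefHull.LocFree
import Groth.Agent.H19.FlatLocus.ModelMod
import Groth.Agent.H52.FBase.ReducedModBC
import Groth.Agent.H47.FlatLimit
import Groth.Agent.Lib.Perfect.Amplitude
import Groth.Agent.Lib.ZarCoh.FP
import Groth.Agent.Lib.Flat55.FlatOverAt

/-!
# The locus where the restriction of a module to the fibre is locally free is locally constructible
-/

set_option autoImplicit false
set_option backward.isDefEq.respectTransparency false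
set_option maxHeartbeats 400000
universe u
open CategoryTheory CategoryTheory.Limits AlgebraicGeometry TopologicalSpace Topology
open Groth.Agent Groth.Agent.Lib

namespace Groth.Agent.H69.FibreLoci.FreeFibre

variable {X Y : Scheme.{u}}

/-- The stalk is free, of the prescribed rank if there is one. -/
def OK (n : Option ℕ) (M : X.Modules) (x : X) : Prop :=
  Module.Free (X.presheaf.stalk x) (M.presheaf.stalk x) ∧
    ∀ m ∈ n, Module.finrank (X.presheaf.stalk x) (M.presheaf.stalk x) = m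

theorem OK.of_iso {n : Option ℕ} {M N : X.Modules} (e : M ≅ N) {x : X} (h : OK n M x) : OK n N x := by
  have := h.1
  let ε := Modules.StalkModule.stalkLinearEquiv e x
  exact ⟨Module.Free.of_equiv ε, fun m hm => ε.finrank_eq ▸ h.2 m hm⟩

theorem ok_congr {n : Option ℕ} {M N : X.Modules} (e : M ≅ N) (x : X) : OK n M x ↔ OK n N x :=
  ⟨OK.of_iso e, OK.of_iso e.symm⟩

theorem finrank_pullback {Z : Scheme.{u}} (q : Z ⟶ X) (M : X.Modules) (z : Z)
    [Module.Free (X.presheaf.stalk (q z)) (M.presheaf.stalk (q z))] :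
    Module.finrank (Z.presheaf.stalk z) (((Scheme.Modules.pullback q).obj M).presheaf.stalk z) =
      Module.finrank (X.presheaf.stalk (q z)) (M.presheaf.stalk (q z)) := by
  let _ : Algebra (X.presheaf.stalk (q z)) (Z.presheaf.stalk z) := (q.stalkMap z).hom.toAlgebra
  let e : TensorProduct (X.presheaf.stalk (q z)) (Z.presheaf.stalk z) (M.presheaf.stalk (q z)) ≃ₗ[Z.presheaf.stalk z]
      ((Scheme.Modules.pullback q).obj M).presheaf.stalk z :=
    ((Groth.Agent.Lib.DerivedOX.PullbackStalk.pullbackStalkIso q z).app M).toLinearEquiv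
  rw [← e.finrank_eq, Module.finrank_baseChange]

/-- Formation of the free locus of a flat module commutes with base change. -/
theorem ok_baseChange_iff (n : Option ℕ) {S X' S' : Scheme.{u}} (f : X ⟶ S)
    [LocallyOfFinitePresentation f] (F : X.Modules) (hF : CohB1.IsFP F)
    (hfl : FlatMod.IsFlatOver f F) {g : S' ⟶ S} {f' : X' ⟶ S'} {g' : X' ⟶ X}
    (sq : IsPullback g' f' f g) (x' : X') :
    OK n ((Scheme.Modules.pullback g').obj F) x' ↔ OK n F (g' x') := by
  have h := Set.ext_iff.1 (S9769.result f F hF hfl g f' g' sq) x'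
  constructor
  · rintro ⟨h1, h2⟩
    have : Module.Free (X.presheaf.stalk (g' x')) (F.presheaf.stalk (g' x')) := h.1 h1
    exact ⟨this, fun m hm => (finrank_pullback g' F x').symm.trans (h2 m hm)⟩
  · rintro ⟨h1, h2⟩
    have := h1
    exact ⟨h.2 h1, fun m hm => (finrank_pullback g' F x').trans (h2 m hm)⟩

theorem isOpen_ok (n : Option ℕ) [IsLocallyNoetherian X] {M : X.Modules} (hM : Coh.IsCoh M) :
    IsOpen {x : X | OK n M x} := by
  let W : X.Opens := ⟨_, RefHull.LocFree.isOpen_free hM⟩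
  have hW : FlatMod.IsFinLocFree (M.restrict W.ι) :=
    RefHull.LocFree.isFinLocFree (RefHull.LocFree.isCoh_restrict hM W) fun z => by
      have : Module.Free (X.presheaf.stalk (W.ι z)) (M.presheaf.stalk (W.ι z)) := z.2
      exact TensorMod.FPCrit.free_stalk_restrict W.ι M z
  rw [isOpen_iff_forall_mem_open]
  rintro x ⟨hx1, hx2⟩
  obtain ⟨U, d, hxU, ⟨i⟩⟩ := hW ⟨x, hx1⟩
  obtain ⟨s, hs⟩ := CurveBundle.Coherent.exists_basis_sections i
  have hrank : ∀ z ∈ U, Module.finrank (X.presheaf.stalk (W.ι z)) (M.presheaf.stalk (W.ι z)) = d := by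
    intro z hz
    rw [← Perfect.Amplitude.finrank_stalk_restrict W.ι M z,
      Module.finrank_eq_card_basis (Module.Basis.mk (hs z hz).1 (hs z hz).2.ge), Fintype.card_fin]
  refine ⟨W.ι ''ᵁ U, ?_, (W.ι ''ᵁ U).2, ⟨⟨x, hx1⟩, hxU, rfl⟩⟩
  rintro _ ⟨z, hz, rfl⟩
  exact ⟨z.2, fun m hm => (hrank z hz).trans ((hrank ⟨x, hx1⟩ hxU).symm.trans (hx2 m hm))⟩

/-- The restriction of `F` to the fibre through `x` is OK at `x`. -/
def P (n : Option ℕ) (f : X ⟶ Y) (F : X.Modules) (x : X) : Prop :=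
  OK n ((Scheme.Modules.pullback (f.fiberι (f x))).obj F) (f.asFiber x)

theorem p_iff (n : Option ℕ) (f : X ⟶ Y) (F : X.Modules) (y : Y) (a : f.fiber y) :
    P n f F (f.fiberι y a) ↔ OK n ((Scheme.Modules.pullback (f.fiberι y)).obj F) a := by
  have hy : f (f.fiberι y a) = y := (Scheme.Hom.range_fiberι f y).subset ⟨a, rfl⟩
  obtain ⟨x, hx⟩ : ∃ x, f.fiberι y a = x := ⟨_, rfl⟩
  rw [hx] at hy ⊢
  subst hy
  obtain rfl : a = f.asFiber x :=
    (f.fiberι (f x)).isEmbedding.injective (hx.trans (f.fiberι_asFiber x).symm)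
  rfl

theorem p_baseChange (n : Option ℕ) {X' Y' : Scheme.{u}} (f : X ⟶ Y) [LocallyOfFinitePresentation f]
    (F : X.Modules) (hF : CohB1.IsFP F) {f' : X' ⟶ Y'} {g' : X' ⟶ X} {g : Y' ⟶ Y}
    (sq : IsPullback g' f' f g) {F' : X'.Modules} (e : (Scheme.Modules.pullback g').obj F ≅ F') (x' : X') :
    P n f' F' x' ↔ P n f F (g' x') := by
  have : SheafOfModules.IsFinitePresentation (R := X.ringCatSheaf) F := hF
  have : F.IsQuasicoherent := inferInstance
  let y' := f' x'
  have hsq := isPullback_fiberToSpecResidueField_of_isPullback sq y'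
  let m := pullback.map f' (Y'.fromSpecResidueField y') f (Y.fromSpecResidueField (g y')) g'
    (Spec.map (g.residueFieldMap y')) g sq.w.symm (by simp)
  let a' := f'.asFiber x'
  have he : m ≫ f.fiberι (g y') = f'.fiberι y' ≫ g' := pullback.lift_fst _ _ _
  have hm : f.fiberι (g y') (m a') = g' x' :=
    (congr($he a')).trans (congrArg g' (f'.fiberι_asFiber x'))
  rw [← hm, p_iff]
  let G := (Scheme.Modules.pullback (f.fiberι (g y'))).obj F
  have : LocallyOfFinitePresentation (f.fiberToSpecResidueField (g y')) :=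
    MorphismProperty.pullback_snd _ _ inferInstance
  refine Iff.trans ?_ (ok_baseChange_iff n (f.fiberToSpecResidueField (g y')) G
    (H47.FlatLimit.isFP_pullback _ F hF)
    (H52.FBase.ReducedModBC.isFlatOver_field (k := Y.residueField (g y'))
      (f.fiberToSpecResidueField (g y')) G) hsq a')
  exact ok_congr ((Scheme.Modules.pullback (f'.fiberι y')).mapIso e.symm ≪≫
    (Scheme.Modules.pullbackComp (f'.fiberι y') g').app F ≪≫
    (Scheme.Modules.pullbackCongr he.symm).app F ≪≫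
    ((Scheme.Modules.pullbackComp m (f.fiberι (g y'))).app F).symm) a'

theorem ok_openImmersion (n : Option ℕ) {U : Scheme.{u}} (j : U ⟶ X) [IsOpenImmersion j]
    (M : X.Modules) (v : U) : OK n ((Scheme.Modules.pullback j).obj M) v ↔ OK n M (j v) := by
  rw [← ok_congr ((Scheme.Modules.restrictFunctorIsoPullback j).app M) v]
  show OK n (M.restrict j) v ↔ _
  constructor
  · rintro ⟨h1, h2⟩
    exact ⟨RefHull.LocFree.free_stalk_of_restrict j M v h1,
      fun m hm => (Perfect.Amplitude.finrank_stalk_restrict j M v).symm.trans (h2 m hm)⟩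
  · rintro ⟨h1, h2⟩
    exact ⟨TensorMod.FPCrit.free_stalk_restrict j M v,
      fun m hm => (Perfect.Amplitude.finrank_stalk_restrict j M v).trans (h2 m hm)⟩

theorem p_openImmersion (n : Option ℕ) {U : Scheme.{u}} (j : U ⟶ X) [IsOpenImmersion j]
    (f : X ⟶ Y) (F : X.Modules) (_hF : CohB1.IsFP F) (f' : U ⟶ Y) (hf : f' = j ≫ f)
    {F' : U.Modules} (e : (Scheme.Modules.pullback j).obj F ≅ F') (v : U) :
    P n f' F' v ↔ P n f F (j v) := by
  subst hf
  let y := (j ≫ f) v
  let a := (j ≫ f).asFiber v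
  let m := pullback.map (j ≫ f) (Y.fromSpecResidueField y) f (Y.fromSpecResidueField y) j
    (𝟙 _) (𝟙 _) (by simp) (by simp)
  have he : m ≫ f.fiberι y = (j ≫ f).fiberι y ≫ j := pullback.lift_fst _ _ _
  have sq : IsPullback ((j ≫ f).fiberι y) m j (f.fiberι y) := by
    refine IsPullback.of_bot ?_ he.symm (IsPullback.of_hasPullback f (Y.fromSpecResidueField y))
    have hs : m ≫ pullback.snd f (Y.fromSpecResidueField y) = pullback.snd _ _ :=
      (pullback.lift_snd _ _ _).trans (Category.comp_id _)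
    rw [hs]
    exact IsPullback.of_hasPullback (j ≫ f) (Y.fromSpecResidueField y)
  have : IsOpenImmersion m := MorphismProperty.of_isPullback sq inferInstance
  have hm : f.fiberι y (m a) = j v :=
    (congr($he a)).trans (congrArg j ((j ≫ f).fiberι_asFiber v))
  rw [← hm, p_iff]
  refine Iff.trans ?_ (ok_openImmersion n m ((Scheme.Modules.pullback (f.fiberι y)).obj F) a)
  exact ok_congr ((Scheme.Modules.pullback ((j ≫ f).fiberι y)).mapIso e.symm ≪≫
    (Scheme.Modules.pullbackComp ((j ≫ f).fiberι y) j).app F ≪≫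
    (Scheme.Modules.pullbackCongr he.symm).app F ≪≫
    ((Scheme.Modules.pullbackComp m (f.fiberι y)).app F).symm) a

theorem exists_locallyClosed (n : Option ℕ) [IsLocallyNoetherian Y] (f : X ⟶ Y)
    [LocallyOfFiniteType f] [QuasiCompact f] (F : X.Modules) (hF : Coh.IsCoh F) (ξ : X) :
    ∃ V : Set X, V ⊆ closure {ξ} ∧ ξ ∈ V ∧
      IsOpen (Subtype.val ⁻¹' V : Set ↑(closure ({ξ} : Set X))) ∧ ∀ x ∈ V, (P n f F x ↔ P n f F ξ) := by
  have : LocallyOfFinitePresentation f := H46.FibreDimNhd.locallyOfFinitePresentation f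
  have : IsLocallyNoetherian X := LocallyOfFiniteType.isLocallyNoetherian f
  have : F.IsQuasicoherent := hF.1
  have hFfp : CohB1.IsFP F := ZarCoh.FP.isFP_of_isCoh F hF
  let J := Scheme.IdealSheafData.vanishingIdeal (⟨closure {f ξ}, isClosed_closure⟩ : Closeds Y)
  let i := J.subschemeι
  have hr : Set.range i = closure {f ξ} := by
    rw [Scheme.IdealSheafData.range_subschemeι, Scheme.IdealSheafData.coe_support_vanishingIdeal]
    rfl
  have : IsReduced J.subscheme := H75.RedSub.isReduced_vanishingIdeal _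
  obtain ⟨η₀, hη₀⟩ := hr.symm.subset (subset_closure (Set.mem_singleton (f ξ)))
  have hgen : IsGenericPoint η₀ (Set.univ : Set J.subscheme) := by
    show closure {η₀} = Set.univ
    rw [i.isClosedEmbedding.isInducing.closure_eq_preimage_closure_image, Set.image_singleton,
      show i η₀ = f ξ from hη₀, ← hr, Set.preimage_range]
  have : IrreducibleSpace J.subscheme := (irreducibleSpace_def _).2 hgen.isIrreducible
  have : IsIntegral J.subscheme := isIntegral_of_irreducibleSpace_of_isReduced _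
  have : IsLocallyNoetherian J.subscheme := LocallyOfFiniteType.isLocallyNoetherian i
  let g := pullback.snd f i
  let O := (Scheme.Modules.pullback (pullback.fst f i)).obj F
  have hO : SheafOfModules.IsFinitePresentation (R := (pullback f i).ringCatSheaf) O :=
    H47.FlatLimit.isFP_pullback _ F hFfp
  have : O.IsQuasicoherent := inferInstance
  obtain ⟨V₀, hV₀, hflat⟩ := Lib.GenFree.generic_flatness g O
  have hη₀V : η₀ ∈ V₀ := (hgen.mem_open_set_iff V₀.2).2 (by simpa using hV₀)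
  obtain ⟨OU, hOU, hOUe⟩ := i.isClosedEmbedding.isInducing.isOpen_iff.1 V₀.2
  let gU := g ∣_ V₀
  have : LocallyOfFiniteType gU :=
    IsZariskiLocalAtTarget.restrict (MorphismProperty.pullback_snd _ _ ‹_›) V₀
  have : IsLocallyNoetherian (V₀ : Scheme.{u}) := isLocallyNoetherian_of_isOpenImmersion V₀.ι
  have : LocallyOfFinitePresentation gU := H46.FibreDimNhd.locallyOfFinitePresentation gU
  have : IsLocallyNoetherian (g ⁻¹ᵁ V₀ : Scheme.{u}) := LocallyOfFiniteType.isLocallyNoetherian gU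
  have sq := (isPullback_morphismRestrict g V₀).flip.paste_horiz (IsPullback.of_hasPullback f i)
  let q := (g ⁻¹ᵁ V₀).ι ≫ pullback.fst f i
  have hq : IsPullback q gU f (V₀.ι ≫ i) := sq
  let G := (Scheme.Modules.pullback q).obj F
  have hG : CohB1.IsFP G := H47.FlatLimit.isFP_pullback _ F hFfp
  have hGc : Coh.IsCoh G := Cyc.FP.Stalk.isCoh_pullback q hF
  have hGfl : FlatMod.IsFlatOver gU G := fun w => by
    have h1 : FlatMod.IsFlatOverAt ((g ⁻¹ᵁ V₀).ι ≫ g)
        ((Scheme.Modules.pullback (g ⁻¹ᵁ V₀).ι).obj O) w :=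
      (Flat55.FlatOverAt.isFlatOverAt_pullback_iff (g ⁻¹ᵁ V₀).ι g O w
        (RingHom.Flat.of_bijective (ConcreteCategory.bijective_of_isIso _))).2 (hflat _ w.2)
    have sq1 : IsPullback (𝟙 _) gU ((g ⁻¹ᵁ V₀).ι ≫ g) V₀.ι := by
      rw [← morphismRestrict_ι]
      exact (IsPullback.id_horiz gU).paste_vert (IsKernelPair.id_of_mono V₀.ι)
    exact Flat55.FlatOverAt.of_iso gU
      ((Scheme.Modules.pullbackId _).app _ ≪≫
        (Scheme.Modules.pullbackComp (g ⁻¹ᵁ V₀).ι (pullback.fst f i)).app F) w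
      (Flat55.FlatOverAt.isFlatOverAt_baseChange _ _ _ _ sq1 _ w h1)
  have : IsPreimmersion q := MorphismProperty.of_isPullback hq.flip
    (inferInstanceAs (IsPreimmersion (V₀.ι ≫ i)))
  have hind : IsInducing q := q.isEmbedding.isInducing
  have hlift : ∀ x ∈ closure ({ξ} : Set X), f x ∈ OU → ∃ w, q w = x := by
    intro x hx hxU
    obtain ⟨t, ht⟩ := hr.symm.subset ((specializes_iff_mem_closure.2 hx).map f.continuous).mem_closure
    have htV : t ∈ V₀ := (Set.ext_iff.1 hOUe t).1 (show i t ∈ OU from ht.symm ▸ hxU)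
    obtain ⟨z, hz, -⟩ := Scheme.exists_preimage_of_isPullback hq x ⟨t, htV⟩ ht.symm
    exact ⟨z, hz⟩
  have hξU : f ξ ∈ OU := hη₀ ▸ (Set.ext_iff.1 hOUe η₀).2 hη₀V
  obtain ⟨w₀, hw₀⟩ := hlift ξ (subset_closure rfl) hξU
  have hO' : IsOpen {w | OK n G w} := isOpen_ok n hGc
  have hPq : ∀ w, OK n G w ↔ P n f F (q w) := fun w => by
    rw [← p_baseChange n f F hFfp hq (Iso.refl G) w]
    have hsq : IsPullback (gU.fiberι (gU w)) (gU.fiberToSpecResidueField (gU w)) gU
        ((V₀ : Scheme.{u}).fromSpecResidueField (gU w)) := IsPullback.of_hasPullback gU _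
    refine Iff.trans ?_ (ok_baseChange_iff n gU G hG hGfl hsq (gU.asFiber w)).symm
    rw [gU.fiberι_asFiber w]
  by_cases hξ : P n f F ξ
  · obtain ⟨O', hO'', hO'e⟩ := hind.isOpen_iff.1 hO'
    refine ⟨closure {ξ} ∩ (O' ∩ f ⁻¹' OU), Set.inter_subset_left,
      ⟨subset_closure rfl, ?_, hξU⟩, ?_, ?_⟩
    · exact hw₀ ▸ (Set.ext_iff.1 hO'e w₀).2 ((hPq w₀).2 (hw₀.symm ▸ hξ))
    · rw [show (Subtype.val ⁻¹' (closure {ξ} ∩ (O' ∩ f ⁻¹' OU)) : Set ↑(closure ({ξ} : Set X))) =
        Subtype.val ⁻¹' (O' ∩ f ⁻¹' OU) by ext z; exact and_iff_right z.2]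
      exact (hO''.inter (hOU.preimage f.continuous)).preimage continuous_subtype_val
    · rintro x ⟨hx, hxO, hxU⟩
      obtain ⟨w, rfl⟩ := hlift x hx hxU
      exact iff_of_true ((hPq w).1 ((Set.ext_iff.1 hO'e w).1 hxO)) hξ
  · refine ⟨closure {ξ} ∩ f ⁻¹' OU, Set.inter_subset_left, ⟨subset_closure rfl, hξU⟩, ?_, ?_⟩
    · rw [show (Subtype.val ⁻¹' (closure {ξ} ∩ f ⁻¹' OU) : Set ↑(closure ({ξ} : Set X))) =
        Subtype.val ⁻¹' (f ⁻¹' OU) by ext z; exact and_iff_right z.2]
      exact (hOU.preimage f.continuous).preimage continuous_subtype_val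
    · rintro x ⟨hx, hxU⟩
      obtain ⟨w, rfl⟩ := hlift x hx hxU
      refine iff_of_false (fun h => hξ ?_) hξ
      have hs : w₀ ⤳ w := hind.specializes_iff.1 (hw₀.symm ▸ specializes_iff_mem_closure.2 hx)
      exact hw₀ ▸ (hPq w₀).1 (hs.mem_open hO' ((hPq w).2 h))

theorem isLocallyConstructible (n : Option ℕ) (f : X ⟶ Y) [LocallyOfFinitePresentation f]
    (F : X.Modules) [Coh.IsQCoh F] (hF : CohB1.IsFP F) : IsLocallyConstructible {x : X | P n f F x} := by
  intro x
  obtain ⟨U, hU, hxU, -⟩ := exists_isAffineOpen_mem_and_subset (U := ⊤) (x := f x) trivial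
  obtain ⟨W, hW, hxW, hWU⟩ := exists_isAffineOpen_mem_and_subset (X := X) (U := f ⁻¹ᵁ U) hxU
  have : IsAffine (U : Scheme.{u}) := hU
  have : IsAffine (W : Scheme.{u}) := hW
  let f' := f.resLE U W hWU
  have : F.IsQuasicoherent := ‹Coh.IsQCoh F›
  let F' := (Scheme.Modules.pullback W.ι).obj F
  have : Coh.IsQCoh F' := QCoh.Pullback.isQCoh_pullback _ F
  obtain ⟨X₁, S₁, f₁, g, g', hX₁, hS₁, hsq, hft, hlft, F₁, hF₁, -, ⟨e⟩⟩ :=
    H19.FlatLocus.ModelMod.exists_scheme_model f' F' (H47.FlatLimit.isFP_pullback _ F hF)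
  have : IsNoetherianRing Γ(S₁, ⊤) := Algebra.FiniteType.isNoetherianRing ℤ _
  have : IsLocallyNoetherian S₁ := isLocallyNoetherian_of_isOpenImmersion S₁.isoSpec.hom
  have := H46.FibreDimNhd.locallyOfFinitePresentation f₁
  have : IsLocallyNoetherian X₁ := LocallyOfFiniteType.isLocallyNoetherian f₁
  have : IsNoetherian X₁ := {}
  have hE : IsConstructible {z : X₁ | P n f₁ F₁ z} :=
    H46.GeomSpread.isConstructible_of_locallyClosed _ fun ξ => exists_locallyClosed n f₁ F₁ hF₁ ξ
  refine ⟨W, W.2.mem_nhds hxW, W.2, ?_⟩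
  have h2 : IsConstructible (⇑g' ⁻¹' {z : X₁ | P n f₁ F₁ z}) :=
    (H47.ConsPreimage.isLocallyConstructible_preimage g' hE.isLocallyConstructible).isConstructible
  have h3 : (Subtype.val ⁻¹' {z : X | P n f F z} : Set ↑(W : Set X)) =
      ⇑g' ⁻¹' {z : X₁ | P n f₁ F₁ z} := by
    ext v
    refine Iff.trans ?_ (p_baseChange n f₁ F₁ (ZarCoh.FP.isFP_of_isCoh F₁ hF₁) hsq e v)
    have hw : f' ≫ U.ι = W.ι ≫ f := Scheme.Hom.resLE_comp_ι _ _
    have sqU : IsPullback (f ⁻¹ᵁ U).ι (f ∣_ U) f U.ι := (isPullback_morphismRestrict f U).flip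
    let j : (W : Scheme.{u}) ⟶ (f ⁻¹ᵁ U : Scheme.{u}) := X.homOfLE hWU
    have : IsOpenImmersion j := inferInstanceAs (IsOpenImmersion (X.homOfLE hWU))
    have hj : j ≫ (f ⁻¹ᵁ U).ι = W.ι := X.homOfLE_ι hWU
    have hbc := p_baseChange n f F hF sqU (Iso.refl _) (j v)
    rw [show (f ⁻¹ᵁ U).ι (j v) = W.ι v from congr($hj v)] at hbc
    refine hbc.symm.trans ?_
    let F'' := (Scheme.Modules.pullback (f ⁻¹ᵁ U).ι).obj F
    have : LocallyOfFinitePresentation (f ∣_ U) := inferInstance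
    exact (p_openImmersion n j (f ∣_ U) F'' (H47.FlatLimit.isFP_pullback _ F hF) f' (by
      rw [← cancel_mono U.ι, Category.assoc, morphismRestrict_ι, ← Category.assoc, hj, hw])
      ((Scheme.Modules.pullbackComp j (f ⁻¹ᵁ U).ι).app F ≪≫ (Scheme.Modules.pullbackCongr hj).app F) v).symm
  rw [h3]
  exact h2

end Groth.Agent.H69.FibreLoci.FreeFibre
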