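import Groth.Agent.H47.FibreFlatMod
import Groth.Agent.H69.FibreLoci.FreeFibre

/-!
# The locus where a module is flat over the fibre of an intermediate scheme, at a point
-/

set_option autoImplicit false
set_option backward.isDefEq.respectTransparency false
set_option maxHeartbeats 400000
universe u
open CategoryTheory CategoryTheory.Limits AlgebraicGeometry TopologicalSpace Topology
open Groth.Agent Groth.Agent.Lib Groth.Agent.Lib.Flat55

namespace Groth.Agent.H69.FibreLoci.FlatFibre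

variable {X Y S : Scheme.{u}}

/-- The restriction of `M` to the fibre of `X` through `x` is flat over the fibre of `Y` at `x`. -/
def P (f : X ⟶ Y) (g : Y ⟶ S) (M : X.Modules) (x : X) : Prop :=
  ∀ p : ↥(pullback f (g.fiberι (g (f x)))), pullback.fst f (g.fiberι (g (f x))) p = x →
    FlatMod.IsFlatOverAt (pullback.snd f (g.fiberι (g (f x))))
      ((Scheme.Modules.pullback (pullback.fst f (g.fiberι (g (f x))))).obj M) p

theorem base_fst (f : X ⟶ Y) (g : Y ⟶ S) (s : S) (p : ↥(pullback f (g.fiberι s))) :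
    g (f (pullback.fst f (g.fiberι s) p)) = s := by
  have h : f (pullback.fst f (g.fiberι s) p) = g.fiberι s (pullback.snd f (g.fiberι s) p) :=
    congr($(pullback.condition (f := f) (g := g.fiberι s)) p)
  rw [h]
  exact (Scheme.Hom.range_fiberι g s).subset ⟨_, rfl⟩

theorem exists_point (f : X ⟶ Y) (g : Y ⟶ S) (x : X) :
    ∃ p : ↥(pullback f (g.fiberι (g (f x)))), pullback.fst f (g.fiberι (g (f x))) p = x :=
  (Scheme.Pullback.exists_preimage_pullback (f := f) (g := g.fiberι (g (f x)))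
    x (g.asFiber (f x)) (g.fiberι_asFiber (f x)).symm).imp fun _ h => h.1

theorem p_iff (f : X ⟶ Y) (g : Y ⟶ S) (M : X.Modules) (s : S) (p : ↥(pullback f (g.fiberι s))) :
    P f g M (pullback.fst f (g.fiberι s) p) ↔
      FlatMod.IsFlatOverAt (pullback.snd f (g.fiberι s))
        ((Scheme.Modules.pullback (pullback.fst f (g.fiberι s))).obj M) p := by
  have hy := base_fst f g s p
  obtain ⟨x, hx⟩ : ∃ x, pullback.fst f (g.fiberι s) p = x := ⟨_, rfl⟩
  rw [hx] at hy ⊢
  subst hy
  refine ⟨fun h => h p hx, fun h q hq => ?_⟩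
  obtain rfl : q = p := (pullback.fst f (g.fiberι (g (f x)))).isEmbedding.injective (hq.trans hx.symm)
  exact h

theorem p_baseChange {X' Y' S' : Scheme.{u}} {f : X ⟶ Y} {g : Y ⟶ S} {f' : X' ⟶ Y'} {g' : Y' ⟶ S'}
    {b : S' ⟶ S} {qY : Y' ⟶ Y} {qX : X' ⟶ X} (hY : IsPullback qY g' g b) (hX : IsPullback qX f' f qY)
    {M : X.Modules} {M' : X'.Modules} (e : (Scheme.Modules.pullback qX).obj M ≅ M') (x' : X') :
    P f' g' M' x' ↔ P f g M (qX x') := by
  let s' := g' (f' x')
  let κ := Spec.map (b.residueFieldMap s')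
  have hκ : κ ≫ S.fromSpecResidueField (b s') = S'.fromSpecResidueField s' ≫ b :=
    Scheme.Hom.SpecMap_residueFieldMap_fromSpecResidueField b s'
  have : Flat κ := (HasRingHomProperty.Spec_iff (P := @Flat)).2 (by
    let := (b.residueFieldMap s').hom.toAlgebra
    exact (inferInstance : Module.Flat (S.residueField (b s')) (S'.residueField s')))
  have hout : IsPullback (g'.fiberι s' ≫ qY) (g'.fiberToSpecResidueField s') g
      (κ ≫ S.fromSpecResidueField (b s')) := by
    rw [hκ]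
    exact (IsPullback.of_hasPullback g' (S'.fromSpecResidueField s')).paste_horiz hY
  let πY : g'.fiber s' ⟶ g.fiber (b s') :=
    pullback.lift (g'.fiberι s' ≫ qY) (g'.fiberToSpecResidueField s' ≫ κ)
      (by rw [Category.assoc]; exact hout.w.trans (Category.assoc _ _ _).symm |>.trans (Category.assoc _ _ _))
  have hπY : πY ≫ g.fiberι (b s') = g'.fiberι s' ≫ qY := pullback.lift_fst _ _ _
  have hπYsq : IsPullback πY (g'.fiberToSpecResidueField s') (g.fiberToSpecResidueField (b s')) κ :=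
    IsPullback.of_right (by convert hout using 1; exact hπY) (pullback.lift_snd _ _ _)
      (IsPullback.of_hasPullback g (S.fromSpecResidueField (b s')))
  have : Flat πY := MorphismProperty.of_isPullback hπYsq.flip ‹Flat κ›
  have hbig : IsPullback (pullback.fst f' (g'.fiberι s') ≫ qX) (pullback.snd f' (g'.fiberι s')) f
      (πY ≫ g.fiberι (b s')) := by
    rw [hπY]
    exact (IsPullback.of_hasPullback f' (g'.fiberι s')).paste_horiz hX
  let πX : pullback f' (g'.fiberι s') ⟶ pullback f (g.fiberι (b s')) :=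
    pullback.lift (pullback.fst f' (g'.fiberι s') ≫ qX) (pullback.snd f' (g'.fiberι s') ≫ πY)
      (by rw [Category.assoc]; exact hbig.w.trans (Category.assoc _ _ _).symm |>.trans (Category.assoc _ _ _))
  have hπX : πX ≫ pullback.fst f (g.fiberι (b s')) = pullback.fst f' (g'.fiberι s') ≫ qX :=
    pullback.lift_fst _ _ _
  have hπXsq : IsPullback πX (pullback.snd f' (g'.fiberι s')) (pullback.snd f (g.fiberι (b s'))) πY :=
    IsPullback.of_right (by rw [hπX]; exact hbig) (pullback.lift_snd _ _ _)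
      (IsPullback.of_hasPullback f (g.fiberι (b s')))
  let ι : (Scheme.Modules.pullback (pullback.fst f' (g'.fiberι s'))).obj M' ≅
      (Scheme.Modules.pullback πX).obj ((Scheme.Modules.pullback (pullback.fst f (g.fiberι (b s')))).obj M) :=
    (Scheme.Modules.pullback _).mapIso e.symm ≪≫ (Scheme.Modules.pullbackComp _ qX).app M ≪≫
      (Scheme.Modules.pullbackCongr hπX.symm).app M ≪≫ ((Scheme.Modules.pullbackComp πX _).app M).symm
  obtain ⟨p', hp'⟩ := exists_point f' g' x'
  have hx : pullback.fst f (g.fiberι (b s')) (πX p') = qX x' :=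
    (congr($hπX p')).trans (congrArg qX hp')
  rw [← hx, p_iff]
  conv_lhs => rw [← hp']
  refine (p_iff f' g' M' s' p').trans ⟨fun h => ?_, fun h => ?_⟩
  · exact FlatOverAt.isFlatOverAt_of_baseChange _ _ πX πY hπXsq _ p'
      ((Flat.iff_flat_stalkMap πY).1 inferInstance _) (FlatOverAt.of_iso _ ι p' h)
  · exact FlatOverAt.of_iso _ ι.symm p'
      (FlatOverAt.isFlatOverAt_baseChange _ _ πX πY hπXsq _ p' h)

theorem isFlatOverAt_openImmersion {X' Y' : Scheme.{u}} (j : X' ⟶ X) (k : Y' ⟶ Y)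
    [IsOpenImmersion j] [IsOpenImmersion k] (f : X ⟶ Y) (f' : X' ⟶ Y') (hf : f' ≫ k = j ≫ f)
    (M : X.Modules) (v : X') :
    FlatMod.IsFlatOverAt f' ((Scheme.Modules.pullback j).obj M) v ↔ FlatMod.IsFlatOverAt f M (j v) := by
  rw [← Flat55.FlatOverAt.isFlatOverAt_pullback_iff j f M v
    (RingHom.Flat.of_bijective (ConcreteCategory.bijective_of_isIso _)), ← hf]
  have sq : IsPullback (𝟙 _) f' (f' ≫ k) k :=
    (IsPullback.id_horiz f').paste_vert (IsKernelPair.id_of_mono k)
  let N := (Scheme.Modules.pullback j).obj M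
  refine ⟨fun h => FlatOverAt.of_comp f' k N v
    (RingHom.Flat.of_bijective (ConcreteCategory.bijective_of_isIso _)) h, fun h => ?_⟩
  exact FlatOverAt.of_iso f' ((Scheme.Modules.pullbackId _).app N) v
    (FlatOverAt.isFlatOverAt_baseChange _ _ _ _ sq N v h)

theorem p_openImmersion {X' Y' : Scheme.{u}} (j : X' ⟶ X) (k : Y' ⟶ Y) [IsOpenImmersion j]
    [IsOpenImmersion k] (f : X ⟶ Y) (g : Y ⟶ S) (f' : X' ⟶ Y') (hf : f' ≫ k = j ≫ f)
    {M : X.Modules} {M' : X'.Modules} (e : (Scheme.Modules.pullback j).obj M ≅ M') (v : X') :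
    P f' (k ≫ g) M' v ↔ P f g M (j v) := by
  let s := (k ≫ g) (f' v)
  let m := pullback.map (k ≫ g) (S.fromSpecResidueField s) g (S.fromSpecResidueField s) k
    (𝟙 _) (𝟙 _) (by simp) (by simp)
  have he : m ≫ g.fiberι s = (k ≫ g).fiberι s ≫ k := pullback.lift_fst _ _ _
  have sq : IsPullback ((k ≫ g).fiberι s) m k (g.fiberι s) := by
    refine IsPullback.of_bot ?_ he.symm (IsPullback.of_hasPullback g (S.fromSpecResidueField s))
    have hs : m ≫ pullback.snd g (S.fromSpecResidueField s) = pullback.snd _ _ :=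
      (pullback.lift_snd _ _ _).trans (Category.comp_id _)
    rw [hs]
    exact IsPullback.of_hasPullback (k ≫ g) (S.fromSpecResidueField s)
  have : IsOpenImmersion m := MorphismProperty.of_isPullback sq inferInstance
  let μ : pullback f' ((k ≫ g).fiberι s) ⟶ pullback f (g.fiberι s) :=
    pullback.map f' ((k ≫ g).fiberι s) f (g.fiberι s) j m k hf he.symm
  have : IsOpenImmersion μ := inferInstance
  have hμ₁ : μ ≫ pullback.fst f (g.fiberι s) = pullback.fst f' ((k ≫ g).fiberι s) ≫ j :=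
    pullback.lift_fst _ _ _
  have hμ₂ : pullback.snd f' ((k ≫ g).fiberι s) ≫ m = μ ≫ pullback.snd f (g.fiberι s) :=
    (pullback.lift_snd _ _ _).symm
  let ι : (Scheme.Modules.pullback μ).obj ((Scheme.Modules.pullback (pullback.fst f (g.fiberι s))).obj M) ≅
      (Scheme.Modules.pullback (pullback.fst f' ((k ≫ g).fiberι s))).obj M' :=
    (Scheme.Modules.pullbackComp μ _).app M ≪≫ (Scheme.Modules.pullbackCongr hμ₁).app M ≪≫
      ((Scheme.Modules.pullbackComp _ j).app M).symm ≪≫ (Scheme.Modules.pullback _).mapIso e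
  obtain ⟨p', hp'⟩ := exists_point f' (k ≫ g) v
  have hx : pullback.fst f (g.fiberι s) (μ p') = j v := (congr($hμ₁ p')).trans (congrArg j hp')
  rw [← hx, p_iff]
  conv_lhs => rw [← hp']
  refine (p_iff f' (k ≫ g) M' s p').trans (Iff.trans ?_
    (isFlatOverAt_openImmersion μ m _ _ hμ₂ _ p'))
  exact ⟨FlatOverAt.of_iso _ ι.symm p', FlatOverAt.of_iso _ ι p'⟩

theorem p_iff_flat {T : Scheme.{u}} (f : X ⟶ Y) (g : Y ⟶ T) [LocallyOfFinitePresentation (f ≫ g)]
    [LocallyOfFiniteType g] (M : X.Modules) [M.IsQuasicoherent] (hM : CohB1.IsFP M)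
    (hfl : FlatMod.IsFlatOver (f ≫ g) M) (w : X) : P f g M w ↔ FlatMod.IsFlatOverAt f M w := by
  have : SheafOfModules.IsFinitePresentation (R := X.ringCatSheaf) M := hM
  obtain ⟨p, hp⟩ := exists_point f g w
  refine ⟨fun h => ?_, fun h q hq => ?_⟩
  · have := FlatOverFibre.flat_at_of_pullback_fibre f g M _ p (hfl _) (h p hp)
    rwa [hp] at this
  · exact FlatOverAt.isFlatOverAt_baseChange f (pullback.snd f _)
      (pullback.fst f _) (g.fiberι _) (IsPullback.of_hasPullback _ _) M q (by rwa [hq])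

theorem exists_locallyClosed [IsLocallyNoetherian S] (f : X ⟶ Y) (g : Y ⟶ S)
    [LocallyOfFiniteType g] [LocallyOfFiniteType (f ≫ g)] [QuasiCompact (f ≫ g)]
    (F : X.Modules) (hF : Coh.IsCoh F) (ξ : X) :
    ∃ V : Set X, V ⊆ closure {ξ} ∧ ξ ∈ V ∧
      IsOpen (Subtype.val ⁻¹' V : Set ↑(closure ({ξ} : Set X))) ∧ ∀ x ∈ V, (P f g F x ↔ P f g F ξ) := by
  have : IsLocallyNoetherian X := LocallyOfFiniteType.isLocallyNoetherian (f ≫ g)
  have : F.IsQuasicoherent := hF.1
  have hFfp : CohB1.IsFP F := ZarCoh.FP.isFP_of_isCoh F hF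
  let J := Scheme.IdealSheafData.vanishingIdeal
    (⟨closure {(f ≫ g) ξ}, isClosed_closure⟩ : Closeds S)
  let i := J.subschemeι
  have hr : Set.range i = closure {(f ≫ g) ξ} := by
    rw [Scheme.IdealSheafData.range_subschemeι, Scheme.IdealSheafData.coe_support_vanishingIdeal]
    rfl
  have : IsReduced J.subscheme := H75.RedSub.isReduced_vanishingIdeal _
  obtain ⟨η₀, hη₀⟩ := hr.symm.subset (subset_closure (Set.mem_singleton ((f ≫ g) ξ)))
  have hgen : IsGenericPoint η₀ (Set.univ : Set J.subscheme) := by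
    show closure {η₀} = Set.univ
    rw [i.isClosedEmbedding.isInducing.closure_eq_preimage_closure_image, Set.image_singleton,
      show i η₀ = (f ≫ g) ξ from hη₀, ← hr, Set.preimage_range]
  have : IrreducibleSpace J.subscheme := (irreducibleSpace_def _).2 hgen.isIrreducible
  have : IsIntegral J.subscheme := isIntegral_of_irreducibleSpace_of_isReduced _
  have : IsLocallyNoetherian J.subscheme := LocallyOfFiniteType.isLocallyNoetherian i
  let u₀ := pullback.snd (f ≫ g) i
  let O := (Scheme.Modules.pullback (pullback.fst (f ≫ g) i)).obj F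
  have hO : SheafOfModules.IsFinitePresentation (R := (pullback (f ≫ g) i).ringCatSheaf) O :=
    H47.FlatLimit.isFP_pullback _ F hFfp
  have : O.IsQuasicoherent := inferInstance
  have : LocallyOfFiniteType u₀ := MorphismProperty.pullback_snd (f ≫ g) i ‹_›
  obtain ⟨V₀, hV₀, hflat⟩ := Lib.GenFree.generic_flatness u₀ O
  have hη₀V : η₀ ∈ V₀ := (hgen.mem_open_set_iff V₀.2).2 (by simpa using hV₀)
  obtain ⟨OU, hOU, hOUe⟩ := i.isClosedEmbedding.isInducing.isOpen_iff.1 V₀.2
  let b := V₀.ι ≫ i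
  let gT := pullback.snd g b
  let fT := pullback.snd f (pullback.fst g b)
  let q := pullback.fst f (pullback.fst g b)
  have hY := IsPullback.of_hasPullback g b
  have hX := IsPullback.of_hasPullback f (pullback.fst g b)
  have hq : IsPullback q (fT ≫ gT) (f ≫ g) b := hX.paste_vert hY
  have : IsLocallyNoetherian (V₀ : Scheme.{u}) := isLocallyNoetherian_of_isOpenImmersion V₀.ι
  have : LocallyOfFiniteType gT := MorphismProperty.pullback_snd g b ‹_›
  have : LocallyOfFiniteType (fT ≫ gT) := MorphismProperty.of_isPullback hq ‹_›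
  have : LocallyOfFinitePresentation (fT ≫ gT) := H46.FibreDimNhd.locallyOfFinitePresentation _
  have : IsLocallyNoetherian ↑(pullback g b) := LocallyOfFiniteType.isLocallyNoetherian gT
  have : LocallyOfFiniteType fT := locallyOfFiniteType_of_comp fT gT
  have : LocallyOfFinitePresentation fT := H46.FibreDimNhd.locallyOfFinitePresentation _
  let G := (Scheme.Modules.pullback q).obj F
  have hG : CohB1.IsFP G := H47.FlatLimit.isFP_pullback _ F hFfp
  have : SheafOfModules.IsFinitePresentation (R := (pullback f (pullback.fst g b)).ringCatSheaf) G := hG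
  have : G.IsQuasicoherent := inferInstance
  have hGfl : FlatMod.IsFlatOver (fT ≫ gT) G := fun w => by
    let q' : pullback f (pullback.fst g b) ⟶ pullback (f ≫ g) i :=
      pullback.lift q ((fT ≫ gT) ≫ V₀.ι) (hq.w.trans (Category.assoc _ _ _).symm)
    have hq₁ : q' ≫ pullback.fst (f ≫ g) i = q := pullback.lift_fst _ _ _
    have hq₂ : q' ≫ u₀ = (fT ≫ gT) ≫ V₀.ι := pullback.lift_snd _ _ _
    have sq1 : IsPullback q' (fT ≫ gT) u₀ V₀.ι :=
      IsPullback.of_right (by rw [hq₁]; exact hq) hq₂ (IsPullback.of_hasPullback (f ≫ g) i)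
    have hw : u₀ (q' w) ∈ V₀ := by
      rw [show u₀ (q' w) = V₀.ι ((fT ≫ gT) w) from congr($hq₂ w)]
      exact ((fT ≫ gT) w).2
    exact FlatOverAt.of_iso _
      ((Scheme.Modules.pullbackComp q' (pullback.fst (f ≫ g) i)).app F ≪≫
        (Scheme.Modules.pullbackCongr hq₁).app F) w
      (FlatOverAt.isFlatOverAt_baseChange _ _ _ _ sq1 O w (hflat _ hw))
  have : IsPreimmersion q := MorphismProperty.of_isPullback hq.flip
    (inferInstanceAs (IsPreimmersion (V₀.ι ≫ i)))
  have hind : IsInducing q := q.isEmbedding.isInducing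
  have hlift : ∀ x ∈ closure ({ξ} : Set X), (f ≫ g) x ∈ OU → ∃ w, q w = x := by
    intro x hx hxU
    obtain ⟨t, ht⟩ := hr.symm.subset
      ((specializes_iff_mem_closure.2 hx).map (f ≫ g).continuous).mem_closure
    have htV : t ∈ V₀ := (Set.ext_iff.1 hOUe t).1 (show i t ∈ OU from ht.symm ▸ hxU)
    obtain ⟨z, hz, -⟩ := Scheme.exists_preimage_of_isPullback hq x ⟨t, htV⟩ ht.symm
    exact ⟨z, hz⟩
  have hξU : (f ≫ g) ξ ∈ OU := hη₀ ▸ (Set.ext_iff.1 hOUe η₀).2 hη₀V
  obtain ⟨w₀, hw₀⟩ := hlift ξ (subset_closure rfl) hξU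
  have hO' : IsOpen {w | FlatMod.IsFlatOverAt fT G w} := H19.FlatLocus.Scheme.isOpen_isFlatOverAt fT G
  have hPq : ∀ w, FlatMod.IsFlatOverAt fT G w ↔ P f g F (q w) := fun w => by
    rw [← p_baseChange hY hX (Iso.refl G) w]
    exact (p_iff_flat fT gT G hG hGfl w).symm
  by_cases hξ : P f g F ξ
  · obtain ⟨O', hO'', hO'e⟩ := hind.isOpen_iff.1 hO'
    refine ⟨closure {ξ} ∩ (O' ∩ (f ≫ g) ⁻¹' OU), Set.inter_subset_left,
      ⟨subset_closure rfl, ?_, hξU⟩, ?_, ?_⟩
    · exact hw₀ ▸ (Set.ext_iff.1 hO'e w₀).2 ((hPq w₀).2 (hw₀.symm ▸ hξ))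
    · rw [show (Subtype.val ⁻¹' (closure {ξ} ∩ (O' ∩ (f ≫ g) ⁻¹' OU)) : Set ↑(closure ({ξ} : Set X))) =
        Subtype.val ⁻¹' (O' ∩ (f ≫ g) ⁻¹' OU) by ext z; exact and_iff_right z.2]
      exact (hO''.inter (hOU.preimage (f ≫ g).continuous)).preimage continuous_subtype_val
    · rintro x ⟨hx, hxO, hxU⟩
      obtain ⟨w, rfl⟩ := hlift x hx hxU
      exact iff_of_true ((hPq w).1 ((Set.ext_iff.1 hO'e w).1 hxO)) hξ
  · refine ⟨closure {ξ} ∩ (f ≫ g) ⁻¹' OU, Set.inter_subset_left, ⟨subset_closure rfl, hξU⟩, ?_, ?_⟩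
    · rw [show (Subtype.val ⁻¹' (closure {ξ} ∩ (f ≫ g) ⁻¹' OU) : Set ↑(closure ({ξ} : Set X))) =
        Subtype.val ⁻¹' ((f ≫ g) ⁻¹' OU) by ext z; exact and_iff_right z.2]
      exact (hOU.preimage (f ≫ g).continuous).preimage continuous_subtype_val
    · rintro x ⟨hx, hxU⟩
      obtain ⟨w, rfl⟩ := hlift x hx hxU
      refine iff_of_false (fun h => hξ ?_) hξ
      have hs : w₀ ⤳ w := hind.specializes_iff.1 (hw₀.symm ▸ specializes_iff_mem_closure.2 hx)
      exact hw₀ ▸ (hPq w₀).1 (hs.mem_open hO' ((hPq w).2 h))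

theorem isLocallyConstructible (f : X ⟶ Y) (g : Y ⟶ S) [LocallyOfFinitePresentation g]
    [LocallyOfFinitePresentation (f ≫ g)] (F : X.Modules) [Coh.IsQCoh F] (hF : CohB1.IsFP F) :
    IsLocallyConstructible {x : X | P f g F x} := by
  intro x
  obtain ⟨U, hU, hxU, -⟩ := exists_isAffineOpen_mem_and_subset (U := ⊤) (x := g (f x)) trivial
  obtain ⟨V, hV, hxV, hVU⟩ := exists_isAffineOpen_mem_and_subset (X := Y) (U := g ⁻¹ᵁ U) hxU
  obtain ⟨W, hW, hxW, hWV⟩ := exists_isAffineOpen_mem_and_subset (X := X) (U := f ⁻¹ᵁ V) hxV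
  have : IsAffine (U : Scheme.{u}) := hU
  have : IsAffine (V : Scheme.{u}) := hV
  have : IsAffine (W : Scheme.{u}) := hW
  have : F.IsQuasicoherent := ‹Coh.IsQCoh F›
  let f' := f.resLE V W hWV
  let g₀ := g.resLE U V hVU
  let g' := g₀ ≫ hU.isoSpec.hom
  let F' := (Scheme.Modules.pullback W.ι).obj F
  have := QCoh.Pullback.isQCoh_pullback W.ι F
  have : LocallyOfFinitePresentation (f' ≫ g') := by
    have h : f' ≫ g' = (f ≫ g).resLE U W (hWV.trans (fun z hz => hVU hz)) ≫ hU.isoSpec.hom := by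
      rw [← Category.assoc, ← cancel_mono hU.isoSpec.inv]
      simp only [Category.assoc, Iso.hom_inv_id, Category.comp_id]
      exact Scheme.Hom.resLE_comp_resLE _ _ _ _
    rw [h]
    infer_instance
  obtain ⟨A₀, _, b, X₁, Y₁, f₁, g₁, qY, qX, M₁, _, _, _, _, hY1, hX1, hM₁, ⟨e⟩⟩ :=
    H47.FibreFlatMod.exists_model f' g' F' (H47.FlatLimit.isFP_pullback _ F hF)
  have : IsLocallyNoetherian X₁ := LocallyOfFiniteType.isLocallyNoetherian (f₁ ≫ g₁)
  have : CompactSpace X₁ := QuasiCompact.compactSpace_of_compactSpace (f₁ ≫ g₁)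
  have : IsNoetherian X₁ := {}
  have hE : IsConstructible {z : X₁ | P f₁ g₁ M₁ z} :=
    H46.GeomSpread.isConstructible_of_locallyClosed _ fun ξ => exists_locallyClosed f₁ g₁ M₁ hM₁ ξ
  refine ⟨W, W.2.mem_nhds hxW, W.2, ?_⟩
  have h2 : IsConstructible (⇑qX ⁻¹' {z : X₁ | P f₁ g₁ M₁ z}) :=
    (H47.ConsPreimage.isLocallyConstructible_preimage qX hE.isLocallyConstructible).isConstructible
  have h3 : (Subtype.val ⁻¹' {z : X | P f g F z} : Set ↑(W : Set X)) =
      ⇑qX ⁻¹' {z : X₁ | P f₁ g₁ M₁ z} := by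
    ext v
    refine Iff.trans ?_ (p_baseChange hY1 hX1 e.symm v)
    let qU := hU.isoSpec.inv ≫ U.ι
    have hw : f' ≫ V.ι = W.ι ≫ f := Scheme.Hom.resLE_comp_ι _ _
    have hv : g' ≫ qU = V.ι ≫ g := by
      rw [Category.assoc, Iso.hom_inv_id_assoc]
      exact Scheme.Hom.resLE_comp_ι _ _
    -- the fibres over `U`
    have sqU : IsPullback (𝟙 _) g' (V.ι ≫ g) qU := by
      rw [← hv]
      exact (IsPullback.id_horiz g').paste_vert (IsKernelPair.id_of_mono qU)
    have sqX : IsPullback (𝟙 _) f' f' (𝟙 _) := IsPullback.of_horiz_isIso ⟨by simp⟩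
    exact ((p_baseChange sqU sqX (M := F') (M' := F') ((Scheme.Modules.pullbackId _).app F') v).trans
      (p_openImmersion W.ι V.ι f g f' hw (Iso.refl F') v)).symm
  rw [h3]
  exact h2

end Groth.Agent.H69.FibreLoci.FlatFibre
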