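import Groth.Agent.H69.FibreLoci.FreeFibre
import Groth.Agent.S9806

/-!
# The set of points over which the module is locally free on the fibre
-/

set_option autoImplicit false
set_option backward.isDefEq.respectTransparency false
universe u
open CategoryTheory CategoryTheory.Limits AlgebraicGeometry TopologicalSpace Topology
open Groth.Agent Groth.Agent.Lib

namespace Groth.Agent.H69.FibreLoci.FreeFibreSet

open Groth.Agent.H69.FibreLoci.FreeFibre

variable {X : Scheme.{u}}

theorem finrank_of_restrict {M : X.Modules} {U : X.Opens} {m : ℕ}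
    (i : M.restrict U.ι ≅ FlatMod.freeMod (↑U) m) (x : X) (hx : x ∈ U) :
    Module.finrank (X.presheaf.stalk x) (M.presheaf.stalk x) = m := by
  obtain ⟨s, hs⟩ := CurveBundle.Coherent.exists_basis_sections i
  rw [Module.finrank_eq_card_basis (Module.Basis.mk (hs x hx).1 (hs x hx).2.ge), Fintype.card_fin]

theorem isFinLocFree_iff {M : X.Modules} (hM : CohB1.IsFP M) :
    FlatMod.IsFinLocFree M ↔ ∀ x, OK none M x := by
  have : SheafOfModules.IsFinitePresentation (R := X.ringCatSheaf) M := hM
  have hqc : M.IsQuasicoherent := inferInstance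
  rw [← S9806.result X M hqc]
  exact ⟨fun h x => ⟨h.2 x, fun m hm => by simp at hm⟩, fun h => ⟨hM, fun x => (h x).1⟩⟩

theorem isFinLocFreeOfRank_iff {M : X.Modules} (hM : CohB1.IsFP M) (n : ℕ) :
    FlatMod.IsFinLocFreeOfRank n M ↔ ∀ x, OK (some n) M x := by
  constructor
  · intro h x
    obtain ⟨U, hx, ⟨i⟩⟩ := h x
    exact ⟨((isFinLocFree_iff hM).1 (fun y => let ⟨V, hV, hi⟩ := h y; ⟨V, n, hV, hi⟩) x).1,
      fun m hm => (finrank_of_restrict i x hx).trans (Option.some.inj hm)⟩
  · intro h x
    obtain ⟨U, m, hx, ⟨i⟩⟩ := (isFinLocFree_iff hM).2 (fun y => ⟨(h y).1, fun _ hm => by simp at hm⟩) x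
    obtain rfl : m = n := (finrank_of_restrict i x hx).symm.trans ((h x).2 n rfl)
    exact ⟨U, hx, ⟨i⟩⟩

theorem isLocallyConstructible {Y : Scheme.{u}} (n : Option ℕ) (f : X ⟶ Y)
    [LocallyOfFinitePresentation f] [QuasiCompact f] (F : X.Modules) [Coh.IsQCoh F] (hF : CohB1.IsFP F) :
    IsLocallyConstructible
      {y : Y | ∀ a : f.fiber y, OK n ((Scheme.Modules.pullback (f.fiberι y)).obj F) a} := by
  have key : {y : Y | ∀ a : f.fiber y, OK n ((Scheme.Modules.pullback (f.fiberι y)).obj F) a} =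
      (⇑f '' {x | P n f F x}ᶜ)ᶜ := by
    ext y
    constructor
    · rintro h ⟨x, hx, hxy⟩
      obtain ⟨a, rfl⟩ : x ∈ Set.range (f.fiberι y) := by rw [Scheme.Hom.range_fiberι]; exact hxy
      exact hx ((p_iff n f F y a).2 (h a))
    · intro h a
      by_contra ha
      exact h ⟨f.fiberι y a, fun hh => ha ((p_iff n f F y a).1 hh),
        (Scheme.Hom.range_fiberι f y).subset ⟨a, rfl⟩⟩
  rw [key]
  exact Dim.isLocallyConstructible_compl (f.isLocallyConstructible_image
    (Dim.isLocallyConstructible_compl (FreeFibre.isLocallyConstructible n f F hF)))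

end Groth.Agent.H69.FibreLoci.FreeFibreSet
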