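import Groth.Agent.H69.FibreLoci.Loci
import Groth.Agent.H47.ConsBasic

/-!
# The associated cycles of the fibres near the generic point of the base
-/

set_option autoImplicit false
set_option linter.style.haveILetI false
universe u
open CategoryTheory AlgebraicGeometry Topology
open Groth.Agent.H46.FibreTrdeg Groth.Agent.H46.FibreProf Groth.Agent.H46.FibreProf.Basic
open Groth.Agent.H46.FibreProf.Open
open Groth.Agent.H69.FibreLoci.Loci Groth.Agent.Lib
open Groth.Agent.Lib.ProCons45.Basic (isLocallyConstructible_compl)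

namespace Groth.Agent.H69.FibreLoci.Generic

variable {X S : Scheme.{u}} (f : X ⟶ S) [LocallyOfFinitePresentation f] [QuasiCompact f]

/-- Points of `B` all of whose generizations inside `B` in the fibre have dimension at most `d`. -/
def Low (B : Set X) (d : ℕ) : Set X := B ∩ {x | ∃ w ∈ B, FG f x w ∧ d + 1 ≤ trd f w}ᶜ

theorem low_of_max {B : Set X} {y : X} (hy : y ∈ B) (hmax : ∀ w ∈ B, FG f y w → w = y) :
    y ∈ Low f B (trd f y) :=
  ⟨hy, fun ⟨w, hw, hyw, hle⟩ => by rw [hmax w hw hyw] at hle; omega⟩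

theorem max_of_low {B : Set X} {y : X} {d : ℕ} (hy : y ∈ Low f B d) (hd : d ≤ trd f y) :
    trd f y = d ∧ ∀ w ∈ B, FG f y w → w = y := by
  have h1 : ∀ w ∈ B, FG f y w → trd f w ≤ d := fun w hw hwy =>
    not_lt.1 fun hlt => hy.2 ⟨w, hw, hwy, hlt⟩
  exact ⟨le_antisymm (h1 y hy.1 (fg_self f y)) hd, fun w hw hwy =>
    eq_of_trd_le f hwy.2 hwy.1 ((h1 w hw hwy).trans hd)⟩

theorem isLocallyConstructible_low {B : Set X} (hB : IsLocallyConstructible B) (d : ℕ) :
    IsLocallyConstructible (Low f B d) :=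
  hB.inter (isLocallyConstructible_compl (Gen.isLocallyConstructible_exists_le_trd f hB _))

theorem eq_of_notMem_assDims {F : X.Modules} {y : X} {d : ℕ} (hd : d ≤ trd f y)
    (h : y ∈ {x : X | AssDims f F {d}ᶜ x}ᶜ) : CInt.fiberDepth f F y = 0 ∧ trd f y = d := by
  simp only [Set.mem_compl_iff, Set.mem_setOf_eq, AssDims, Set.mem_singleton_iff, not_forall,
    not_not] at h
  obtain ⟨θ, hθ, h0, hθd⟩ := h
  obtain rfl : θ = y := eq_of_trd_le f hθ.2 hθ.1 (hθd ▸ hd)
  exact ⟨h0, hθd⟩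

/-- Near the generic point of the base a family of bad sets which is empty over it stays empty. -/
theorem exists_open_of_bad [IsIntegral S] [IsNoetherian S] (E : ℕ → Set X)
    (hE : ∀ d, IsLocallyConstructible (E d))
    (h : ∀ y, f y = genericPoint S → y ∉ E (trd f y)) (hEd : ∀ d y, y ∈ E d → d ≤ trd f y → trd f y = d) :
    ∃ U : S.Opens, genericPoint S ∈ U ∧ ∀ y, f y ∈ U → y ∉ E (trd f y) := by
  have hb : Bounded (fun d => Deep f (E d) d) := bounded_of_trd f fun s d hs => by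
    obtain ⟨y, hy, hys, hd⟩ := (mem_deep_iff f).1 hs
    exact ⟨y, hys, hEd d y hy hd⟩
  have hc := isLocallyConstructible_compl
    (isLocallyConstructible_exists (fun d => isLocallyConstructible_deep f (hE d) d) hb)
  obtain ⟨h1, -⟩ := H47.ConsBasic.mem_interior_of_isConstructible (genericPoint_spec S) hc.isConstructible
  have hη : genericPoint S ∈ ({s | ∃ d, s ∈ Deep f (E d) d}ᶜ : Set S) := by
    rintro ⟨d, hd⟩
    obtain ⟨y, hy, hys, hle⟩ := (mem_deep_iff f).1 hd
    exact h y hys (hEd d y hy hle ▸ hy)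
  exact ⟨⟨_, isOpen_interior⟩, h1 hη, fun y hy hyE =>
    interior_subset hy ⟨_, (mem_deep_iff f).2 ⟨y, hyE, rfl, le_rfl⟩⟩⟩

variable [IsIntegral S] [IsNoetherian S] (F : X.Modules) (hfp : CohB1.IsFP F)
  {ι : Type*} [Finite ι] (x : ι → X) (hx : ∀ i, f (x i) = genericPoint S)
  (hass : ∀ i, CInt.fiberDepth f F (x i) = 0)
  (hall : ∀ θ, f θ = genericPoint S → CInt.fiberDepth f F θ = 0 → ∃ i, x i = θ)
  (hinj : Function.Injective x)
  (hB : ∀ i, IsLocallyConstructible (closure ({x i} : Set X)))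

/-- `y` is a generic point of the trace of the closure of `x i` on its fibre. -/
def IsMaxIn (i : ι) (y : X) : Prop :=
  y ∈ closure ({x i} : Set X) ∧ ∀ w ∈ closure ({x i} : Set X), FG f y w → w = y

include hx in
omit [Finite ι] [AlgebraicGeometry.IsNoetherian S] [LocallyOfFinitePresentation f] [QuasiCompact f] in
theorem isMaxIn_generic {i : ι} {y : X} (hy : f y = genericPoint S) :
    IsMaxIn f x i y ↔ y = x i := by
  constructor
  · rintro ⟨h1, h2⟩
    exact (h2 (x i) (subset_closure rfl)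
      ⟨(hx i).trans hy.symm, specializes_iff_mem_closure.2 h1⟩).symm
  · rintro rfl
    exact ⟨subset_closure rfl, fun w hw hwy =>
      (hwy.2.antisymm (specializes_iff_mem_closure.2 hw)).eq⟩

include hfp hx hass hall hinj hB in
theorem exists_open :
    ∃ U : S.Opens, genericPoint S ∈ U ∧ ∀ y, f y ∈ U →
      (CInt.fiberDepth f F y = 0 ↔ ∃ i, IsMaxIn f x i y) ∧
      (∀ i j, IsMaxIn f x i y → IsMaxIn f x j y → i = j) ∧
      (∀ i, (∀ j, x j ⤳ x i → x j = x i) → IsMaxIn f x i y →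
        ∀ w, CInt.fiberDepth f F w = 0 → FG f y w → w = y) := by
  have hA := fun d => isLocallyConstructible_compl
    (AssCons.isLocallyConstructible_assDims f F hfp ({d}ᶜ : Set ℕ))
  have hass' : ∀ y, CInt.fiberDepth f F y = 0 → y ∈ {z : X | AssDims f F {trd f y}ᶜ z}ᶜ :=
    fun y h0 h => h y (fg_self f y) h0 rfl
  -- maximal points of the closures are associated
  obtain ⟨U₁, hU₁, h1⟩ := exists_open_of_bad f
    (fun d => (⋃ i, Low f (closure ({x i} : Set X)) d) ∩ {z : X | AssDims f F {d}ᶜ z})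
    (fun d => (IsLocallyConstructible.iUnion fun i => isLocallyConstructible_low f (hB i) d).inter
      (AssCons.isLocallyConstructible_assDims f F hfp _))
    (fun y hy ⟨hy1, hy2⟩ => by
      obtain ⟨i, hi⟩ := Set.mem_iUnion.1 hy1
      obtain rfl := (isMaxIn_generic f x hx hy).1 ⟨hi.1, (max_of_low f hi le_rfl).2⟩
      exact hass' _ (hass i) hy2)
    (fun d y ⟨hy1, _⟩ hd => by
      obtain ⟨i, hi⟩ := Set.mem_iUnion.1 hy1
      exact (max_of_low f hi hd).1)
  -- the associated points are maximal points of the closures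
  obtain ⟨U₂, hU₂, h2⟩ := exists_open_of_bad f
    (fun d => {z : X | AssDims f F {d}ᶜ z}ᶜ ∩ ⋂ i, (Low f (closure ({x i} : Set X)) d)ᶜ)
    (fun d => (hA d).inter
      (IsLocallyConstructible.iInter fun i => isLocallyConstructible_compl (isLocallyConstructible_low f (hB i) d)))
    (fun y hy ⟨hy1, hy2⟩ => by
      obtain ⟨h0, -⟩ := eq_of_notMem_assDims f le_rfl hy1
      obtain ⟨i, rfl⟩ := hall y hy h0
      have := (isMaxIn_generic f x hx (i := i) hy).2 rfl
      exact Set.mem_iInter.1 hy2 i (low_of_max f this.1 this.2))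
    (fun d y ⟨hy1, _⟩ hd => (eq_of_notMem_assDims f hd hy1).2)
  -- the maximal points are distinct
  obtain ⟨U₃, hU₃, h3⟩ := exists_open_of_bad f
    (fun d => ⋃ p : {p : ι × ι // p.1 ≠ p.2},
      Low f (closure ({x p.1.1} : Set X)) d ∩ Low f (closure ({x p.1.2} : Set X)) d)
    (fun d => IsLocallyConstructible.iUnion fun p =>
      (isLocallyConstructible_low f (hB _) d).inter (isLocallyConstructible_low f (hB _) d))
    (fun y hy hy' => by
      obtain ⟨⟨⟨i, j⟩, hij⟩, hi, hj⟩ := Set.mem_iUnion.1 hy'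
      exact hij (hinj (((isMaxIn_generic f x hx hy).1 ⟨hi.1, (max_of_low f hi le_rfl).2⟩).symm.trans
        ((isMaxIn_generic f x hx hy).1 ⟨hj.1, (max_of_low f hj le_rfl).2⟩))))
    (fun d y hy hd => by
      obtain ⟨p, hp, -⟩ := Set.mem_iUnion.1 hy
      exact (max_of_low f hp hd).1)
  -- maximal associated points stay maximal
  obtain ⟨U₄, hU₄, h4⟩ := exists_open_of_bad f
    (fun d => (⋃ i : {i : ι // ∀ j, x j ⤳ x i → x j = x i}, Low f (closure ({x i} : Set X)) d) ∩
      {z : X | AssDims f F (Set.Iic d) z}ᶜ)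
    (fun d => (IsLocallyConstructible.iUnion fun i => isLocallyConstructible_low f (hB _) d).inter
      (isLocallyConstructible_compl (AssCons.isLocallyConstructible_assDims f F hfp _)))
    (fun y hy ⟨hy1, hy2⟩ => by
      obtain ⟨⟨i, hi⟩, hyi⟩ := Set.mem_iUnion.1 hy1
      obtain rfl := (isMaxIn_generic f x hx hy).1 ⟨hyi.1, (max_of_low f hyi le_rfl).2⟩
      refine hy2 fun w hw h0 => ?_
      obtain ⟨j, rfl⟩ := hall w (hw.1.trans hy) h0
      rw [hi j hw.2]
      exact le_refl (trd f (x i)))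
    (fun d y ⟨hy1, _⟩ hd => by
      obtain ⟨i, hi⟩ := Set.mem_iUnion.1 hy1
      exact (max_of_low f hi hd).1)
  refine ⟨U₁ ⊓ U₂ ⊓ U₃ ⊓ U₄, ⟨⟨⟨hU₁, hU₂⟩, hU₃⟩, hU₄⟩, fun y ⟨⟨⟨hy1, hy2⟩, hy3⟩, hy4⟩ => ⟨?_, ?_, ?_⟩⟩
  · constructor
    · intro h0
      by_contra hc
      refine h2 y hy2 ⟨hass' y h0, Set.mem_iInter.2 fun i hi => hc ⟨i, hi.1, (max_of_low f hi le_rfl).2⟩⟩
    · rintro ⟨i, hi1, hi2⟩
      by_contra hc
      refine h1 y hy1 ⟨Set.mem_iUnion.2 ⟨i, low_of_max f hi1 hi2⟩, ?_⟩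
      intro θ hθ h0 hθd
      exact hc ((eq_of_trd_le f hθ.2 hθ.1 (le_of_eq hθd)) ▸ h0)
  · intro i j hi hj
    by_contra hij
    exact h3 y hy3 (Set.mem_iUnion.2
      ⟨⟨(i, j), hij⟩, low_of_max f hi.1 hi.2, low_of_max f hj.1 hj.2⟩)
  · intro i hi hyi w hw0 hyw
    by_contra hne
    refine h4 y hy4 ⟨Set.mem_iUnion.2 ⟨⟨i, hi⟩, low_of_max f hyi.1 hyi.2⟩, fun h => ?_⟩
    have h' : trd f w ≤ trd f y := h w hyw hw0
    exact hne (eq_of_trd_le f hyw.2 hyw.1 h')

end Groth.Agent.H69.FibreLoci.Generic
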