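import Groth.Agent.H46.FibreProf.AssCons
import Groth.Agent.H46.FibreProf.Gen
import Groth.Agent.H46.FibreProf.Comps

/-!
# Loci in the base cut out by dimensions and maximality of points in the fibres
-/

set_option autoImplicit false
set_option linter.style.haveILetI false
universe u
open CategoryTheory AlgebraicGeometry IsLocalRing Topology
open Groth.Agent.H46.FibreTrdeg Groth.Agent.H46.FibreProf Groth.Agent.H46.FibreProf.Basic
  Groth.Agent.H46.FibreProf.Open
open Groth.Agent.Lib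
open Groth.Agent.Lib.ProCons45.Basic (isLocallyConstructible_compl)

namespace Groth.Agent.H69.FibreLoci.Loci

variable {X S : Scheme.{u}} (f : X ⟶ S) [LocallyOfFinitePresentation f]

/-- A family of constructible sets indexed by dimensions, bounded on affine opens. -/
def Bounded (H : ℕ → Set S) : Prop :=
  ∀ V : S.Opens, IsAffineOpen V → ∃ e : ℕ, ∀ s ∈ V, ∀ d, s ∈ H d → d ≤ e

theorem bounded_of_trd [QuasiCompact f] {H : ℕ → Set S}
    (hH : ∀ s d, s ∈ H d → ∃ θ, f θ = s ∧ trd f θ = d) : Bounded H := fun V hV => by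
  obtain ⟨e, he⟩ := AssCons.exists_bound_over f V hV
  refine ⟨e, fun s hs d hd => ?_⟩
  obtain ⟨θ, hθ, rfl⟩ := hH s d hd
  exact he θ (hθ.symm ▸ hs)

theorem isLocallyConstructible_exists {H : ℕ → Set S} (hH : ∀ d, IsLocallyConstructible (H d))
    (hb : Bounded H) : IsLocallyConstructible {s : S | ∃ d, s ∈ H d} := by
  refine Cons.isLocallyConstructible_of_local fun s₀ V hV _ => ?_
  obtain ⟨e, he⟩ := hb V hV
  refine ⟨⋃ d : Fin (e + 1), H d, IsLocallyConstructible.iUnion fun d => hH _, fun s hs => ?_⟩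
  simp only [Set.mem_iUnion]
  exact ⟨fun ⟨d, hd⟩ => ⟨⟨d, Nat.lt_succ_of_le (he s hs d hd)⟩, hd⟩, fun ⟨d, hd⟩ => ⟨d, hd⟩⟩

theorem isLocallyConstructible_levelSet {H : ℕ → Set S} (hH : ∀ d, IsLocallyConstructible (H d))
    (hb : Bounded H) (Φ : Set ℕ) : IsLocallyConstructible {s : S | ∀ d, s ∈ H d ↔ d ∈ Φ} := by
  refine Cons.isLocallyConstructible_of_local fun s₀ V hV _ => ?_
  obtain ⟨e, he⟩ := hb V hV
  by_cases hΦ : ∀ d ∈ Φ, d ≤ e
  · refine ⟨(⋂ d : {d : Fin (e + 1) // (d : ℕ) ∈ Φ}, H d.1) ∩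
      ⋂ d : {d : Fin (e + 1) // (d : ℕ) ∉ Φ}, (H d.1)ᶜ,
      (IsLocallyConstructible.iInter fun d => hH _).inter
        (IsLocallyConstructible.iInter fun d => isLocallyConstructible_compl (hH _)), fun s hs => ?_⟩
    simp only [Set.mem_inter_iff, Set.mem_iInter, Set.mem_compl_iff, Set.mem_setOf_eq]
    constructor
    · exact fun h => ⟨fun d => (h _).2 d.2, fun d hd => d.2 ((h _).1 hd)⟩
    · rintro ⟨h1, h2⟩ d
      exact ⟨fun hd => by_contra fun hΦ => h2 ⟨⟨d, Nat.lt_succ_of_le (he s hs d hd)⟩, hΦ⟩ hd,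
        fun hd => h1 ⟨⟨d, Nat.lt_succ_of_le (hΦ d hd)⟩, hd⟩⟩
  · simp only [not_forall] at hΦ
    obtain ⟨d, hd, hde⟩ := hΦ
    exact ⟨∅, .empty, fun s hs => iff_of_false (fun h => hde (he s hs d ((h d).2 hd))) id⟩

/-- The points of the base over which `E` contains a point of dimension at least `d` in its fibre. -/
def Deep (E : Set X) (d : ℕ) : Set S := ⇑f '' {x : X | ∃ y ∈ E, FG f x y ∧ d ≤ trd f y}

theorem mem_deep_iff {E : Set X} {d : ℕ} {s : S} :
    s ∈ Deep f E d ↔ ∃ y ∈ E, f y = s ∧ d ≤ trd f y :=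
  ⟨fun ⟨_, ⟨y, hy, hxy, hd⟩, hx⟩ => ⟨y, hy, hxy.1.trans hx, hd⟩,
    fun ⟨y, hy, hys, hd⟩ => ⟨y, ⟨y, hy, fg_self f y, hd⟩, hys⟩⟩

theorem isLocallyConstructible_deep [QuasiCompact f] {E : Set X} (hE : IsLocallyConstructible E)
    (d : ℕ) : IsLocallyConstructible (Deep f E d) :=
  f.isLocallyConstructible_image (Gen.isLocallyConstructible_exists_le_trd f hE d)

/-- Some maximal point of the trace of `Z` on the fibre over `s` has dimension `d`. -/
def HasMax (Z : Set X) (d : ℕ) : Set S :=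
  {s | ∃ θ ∈ Z, f θ = s ∧ trd f θ = d ∧ ∀ w ∈ Z, FG f θ w → w = θ}

theorem exists_max {Z : Set X} {x : X} (hx : x ∈ Z) :
    ∃ θ ∈ Z, FG f x θ ∧ ∀ w ∈ Z, FG f θ w → w = θ := by
  obtain ⟨b, hb⟩ : ∃ b, ∀ w, FG f x w → trd f w ≤ b := ⟨_, exists_trd_bound f x⟩
  classical
  have hex : ∃ n, ∀ w ∈ Z, FG f x w → trd f w ≤ n := ⟨b, fun w _ hw => hb w hw⟩
  obtain ⟨θ, hθ, hxθ, hn⟩ : ∃ θ ∈ Z, FG f x θ ∧ trd f θ = Nat.find hex := by
    by_contra hc
    push Not at hc
    have hlt : ∀ w ∈ Z, FG f x w → trd f w < Nat.find hex := fun w hw hwx =>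
      lt_of_le_of_ne (Nat.find_spec hex w hw hwx) (hc w hw hwx)
    have h0 := hlt x hx (fg_self f x)
    exact Nat.find_min hex (show Nat.find hex - 1 < Nat.find hex by omega)
      fun w hw hwx => by have := hlt w hw hwx; omega
  refine ⟨θ, hθ, hxθ, fun w hw hwθ => eq_of_trd_le f hwθ.2 hwθ.1 ?_⟩
  rw [hn]
  exact Nat.find_spec hex w hw ⟨hwθ.1.trans hxθ.1, hwθ.2.trans hxθ.2⟩

theorem hasMax_eq (Z : Set X) (d : ℕ) :
    HasMax f Z d = Deep f (Z ∩ {x | ∃ w ∈ Z, FG f x w ∧ d + 1 ≤ trd f w}ᶜ) d := by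
  ext s
  rw [mem_deep_iff]
  constructor
  · rintro ⟨θ, hθ, hs, hd, hmax⟩
    refine ⟨θ, ⟨hθ, fun ⟨w, hw, hwθ, hle⟩ => ?_⟩, hs, hd.ge⟩
    rw [hmax w hw hwθ] at hle
    omega
  · rintro ⟨y, ⟨hy, hn⟩, hs, hd⟩
    have h1 : ∀ w ∈ Z, FG f y w → trd f w ≤ d := fun w hw hwy =>
      not_lt.1 fun hlt => hn ⟨w, hw, hwy, hlt⟩
    exact ⟨y, hy, hs, le_antisymm (h1 y hy (fg_self f y)) hd, fun w hw hwy =>
      eq_of_trd_le f hwy.2 hwy.1 ((h1 w hw hwy).trans hd)⟩

theorem isLocallyConstructible_hasMax [QuasiCompact f] {Z : Set X} (hZ : IsLocallyConstructible Z)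
    (d : ℕ) : IsLocallyConstructible (HasMax f Z d) := by
  rw [hasMax_eq]
  exact isLocallyConstructible_deep f (hZ.inter (isLocallyConstructible_compl
    (Gen.isLocallyConstructible_exists_le_trd f hZ _))) d

theorem bounded_hasMax [QuasiCompact f] (Z : Set X) : Bounded (HasMax f Z) :=
  bounded_of_trd f fun _ _ ⟨θ, _, hs, hd, _⟩ => ⟨θ, hs, hd⟩

variable (F : X.Modules) (hfp : CohB1.IsFP F)

/-- Some associated point of dimension `d` is, in its fibre, a proper specialization of a point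
satisfying `R`. -/
def HasProper (R : X → Prop) (d : ℕ) : Set S :=
  {s | ∃ θ, f θ = s ∧ CInt.fiberDepth f F θ = 0 ∧ trd f θ = d ∧ ∃ w, R w ∧ FG f θ w ∧ w ≠ θ}

theorem hasProper_eq (R : X → Prop) (d : ℕ) :
    HasProper f F R d = Deep f ({x | AssDims f F {d}ᶜ x}ᶜ ∩
      {x | ∃ w, R w ∧ FG f x w ∧ d + 1 ≤ trd f w}) d := by
  ext s
  rw [mem_deep_iff]
  constructor
  · rintro ⟨θ, hs, h0, hd, w, hw, hθw, hne⟩
    refine ⟨θ, ⟨fun h => h θ (fg_self f θ) h0 hd, w, hw, hθw, ?_⟩, hs, hd.ge⟩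
    have := trd_lt f hθw.2 hθw.1 hne
    omega
  · rintro ⟨y, ⟨hA, w, hw, hyw, hle⟩, hs, hd⟩
    simp only [Set.mem_compl_iff, Set.mem_setOf_eq, AssDims, Set.mem_singleton_iff, not_forall,
      not_not] at hA
    obtain ⟨θ, hθ, h0, hθd⟩ := hA
    obtain rfl : θ = y := eq_of_trd_le f hθ.2 hθ.1 (hθd ▸ hd)
    exact ⟨θ, hs, h0, hθd, w, hw, hyw, fun e => by rw [e, hθd] at hle; omega⟩

theorem bounded_hasProper [QuasiCompact f] (R : X → Prop) : Bounded (HasProper f F R) :=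
  bounded_of_trd f fun _ _ ⟨θ, hs, _, hd, _⟩ => ⟨θ, hs, hd⟩

include hfp in
/-- Associated points which are proper specializations of associated points. -/
theorem isLocallyConstructible_embedded [QuasiCompact f] (d : ℕ) :
    IsLocallyConstructible (HasProper f F (fun w => CInt.fiberDepth f F w = 0) d) := by
  rw [hasProper_eq]
  refine isLocallyConstructible_deep f ((isLocallyConstructible_compl
    (AssCons.isLocallyConstructible_assDims f F hfp _)).inter ?_) d
  convert isLocallyConstructible_compl (AssCons.isLocallyConstructible_assDims f F hfp (Set.Iic d))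
    using 1
  ext x
  simp only [Set.mem_compl_iff, Set.mem_setOf_eq, AssDims, Set.mem_Iic, not_forall, not_le]
  exact ⟨fun ⟨w, h0, hw, hle⟩ => ⟨w, hw, h0, hle⟩, fun ⟨w, hw, h0, hle⟩ => ⟨w, h0, hw, hle⟩⟩

include hfp in
/-- Associated points which are not maximal in their fibre. -/
theorem isLocallyConstructible_nonMaximal [QuasiCompact f] (d : ℕ) :
    IsLocallyConstructible (HasProper f F (fun _ => True) d) := by
  rw [hasProper_eq]
  refine isLocallyConstructible_deep f ((isLocallyConstructible_compl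
    (AssCons.isLocallyConstructible_assDims f F hfp _)).inter ?_) d
  exact Gen.isLocallyConstructible_exists_le_trd f (E := Set.univ) IsLocallyConstructible.univ (d + 1)

/-- Some associated point of dimension `d` is maximal in its fibre. -/
def HasAssMax (d : ℕ) : Set S :=
  {s | ∃ θ, f θ = s ∧ CInt.fiberDepth f F θ = 0 ∧ trd f θ = d ∧ ∀ w, FG f θ w → w = θ}

include hfp in
theorem isLocallyConstructible_hasAssMax [QuasiCompact f] (d : ℕ) :
    IsLocallyConstructible (HasAssMax f F d) := by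
  have key : HasAssMax f F d = Deep f ({x | AssDims f F {d}ᶜ x}ᶜ ∩
      {x | ∃ w ∈ Set.univ, FG f x w ∧ d + 1 ≤ trd f w}ᶜ) d := by
    ext s
    rw [mem_deep_iff]
    constructor
    · rintro ⟨θ, hs, h0, hd, hmax⟩
      refine ⟨θ, ⟨fun h => h θ (fg_self f θ) h0 hd, fun ⟨w, _, hw, hle⟩ => ?_⟩, hs, hd.ge⟩
      rw [hmax w hw] at hle
      omega
    · rintro ⟨y, ⟨hA, hn⟩, hs, hd⟩
      simp only [Set.mem_compl_iff, Set.mem_setOf_eq, AssDims, Set.mem_singleton_iff, not_forall,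
        not_not] at hA
      obtain ⟨θ, hθ, h0, hθd⟩ := hA
      obtain rfl : θ = y := eq_of_trd_le f hθ.2 hθ.1 (hθd ▸ hd)
      exact ⟨θ, hs, h0, hθd, fun w hw => eq_of_trd_le f hw.2 hw.1
        (not_lt.1 fun hlt => hn ⟨w, trivial, hw, by omega⟩)⟩
  rw [key]
  exact isLocallyConstructible_deep f ((isLocallyConstructible_compl
    (AssCons.isLocallyConstructible_assDims f F hfp _)).inter (isLocallyConstructible_compl
      (Gen.isLocallyConstructible_exists_le_trd f IsLocallyConstructible.univ _))) d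

theorem bounded_hasAssMax [QuasiCompact f] : Bounded (HasAssMax f F) :=
  bounded_of_trd f fun _ _ ⟨θ, hs, _, hd, _⟩ => ⟨θ, hs, hd⟩

end Groth.Agent.H69.FibreLoci.Loci
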