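import Groth.Agent.S9737
import Groth.Agent.Lib.LimTop.Points

/-!
# Refining a noetherian model so that the base maps into a given constructible set
-/

set_option autoImplicit false
set_option backward.isDefEq.respectTransparency false
set_option maxHeartbeats 400000
universe u

open AlgebraicGeometry CategoryTheory CategoryTheory.Limits Opposite Topology
open Groth.Agent

namespace Groth.Agent.H69.FibreLoci.Refine

attribute [local instance] ULift.algebra'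

/-- If the base of an affine finite type model maps into the constructible set `E`, a finer model
has its whole base mapping into `E`. -/
theorem exists_refine {X S X₁ S₁ : Scheme.{u}} (f : X ⟶ S) [IsAffine S] [IsAffine X₁] [IsAffine S₁]
    (f₁ : X₁ ⟶ S₁) (g₁ : S ⟶ S₁) (g₁' : X ⟶ X₁) (h₁ : IsPullback g₁' f f₁ g₁)
    (hS₁ : Algebra.FiniteType ℤ Γ(S₁, ⊤)) [LocallyOfFiniteType f₁]
    (E : Set S₁) (hE : IsConstructible E) (hg : ∀ s, g₁ s ∈ E) :
    ∃ (X₀ S₀ : Scheme.{u}) (f₀ : X₀ ⟶ S₀) (g : S ⟶ S₀) (g' : X ⟶ X₀) (ρ : S₀ ⟶ S₁) (ρ' : X₀ ⟶ X₁),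
      IsAffine X₀ ∧ IsAffine S₀ ∧ IsPullback g' f f₀ g ∧ Algebra.FiniteType ℤ Γ(S₀, ⊤) ∧
      LocallyOfFiniteType f₀ ∧ IsPullback ρ' f₀ f₁ ρ ∧ ∀ s₀ : S₀, ρ s₀ ∈ E := by
  classical
  obtain ⟨s₁, hs₁⟩ := hS₁.out
  let i₀ : H47.PairProp.FGSub (ULift.{u} ℤ) Γ(S, ⊤) :=
    ⟨Algebra.adjoin _ ((s₁.image g₁.appTop : Finset Γ(S, ⊤)) : Set Γ(S, ⊤)),
      Subalgebra.fg_adjoin_finset _⟩
  obtain ⟨ρ₁, hρ₁⟩ := S9737.exists_factor g₁ i₀.1 s₁ hs₁ fun x hx ↦ Algebra.subset_adjoin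
    (Finset.mem_image_of_mem _ hx)
  obtain ⟨hcol⟩ := H47.PairProp.nonempty_isColimit_subsCocone (ULift.{u} ℤ) Γ(S, ⊤)
  let F := H47.PairProp.subs (ULift.{u} ℤ) Γ(S, ⊤)
  let c := H47.SpecLimit.cone F (H47.PairProp.subsCocone (ULift.{u} ℤ) Γ(S, ⊤))
  have hc : IsLimit c := H47.SpecLimit.isLimitCone F _ hcol
  let π : c.pt ⟶ (H47.SpecLimit.diagram F).obj (op i₀) := c.π.app (op i₀)
  have hρ : S.isoSpec.hom ≫ π ≫ ρ₁ = g₁ := hρ₁
  let Z : Set ((H47.SpecLimit.diagram F).obj (op i₀)) := ⇑ρ₁ ⁻¹' E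
  have hZ : Lib.LimTop.PC.IsPC Zᶜ := (Lib.LimTop.PC.IsPC.compl_of_isConstructible hE).preimage ρ₁
  have : CompactSpace ((H47.SpecLimit.diagram F).obj (op i₀)) :=
    inferInstanceAs (CompactSpace (Spec (CommRingCat.of i₀.1)))
  obtain ⟨k, φ, hk⟩ := Lib.LimTop.Points.exists_map_preimage_subset hc (op i₀)
    Lib.LimTop.PC.IsPC.univ hZ fun s _ => by
      show ρ₁ (π s) ∈ E
      obtain ⟨t, rfl⟩ : ∃ t, S.isoSpec.hom t = s :=
        ⟨S.isoSpec.inv s, by rw [← Scheme.Hom.comp_apply, S.isoSpec.inv_hom_id]; rfl⟩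
      have := congr($hρ t)
      rw [Scheme.Hom.comp_apply, Scheme.Hom.comp_apply] at this
      exact this ▸ hg t
  let ρ : (H47.SpecLimit.diagram F).obj k ⟶ S₁ := (H47.SpecLimit.diagram F).map φ ≫ ρ₁
  let g : S ⟶ (H47.SpecLimit.diagram F).obj k := S.isoSpec.hom ≫ c.π.app k
  have hgρ : g ≫ ρ = g₁ := by
    rw [← hρ]
    simp only [g, ρ, π, Category.assoc]
    exact congrArg (S.isoSpec.hom ≫ ·) (c.w_assoc φ ρ₁)
  let g' : X ⟶ pullback f₁ ρ :=
    pullback.lift g₁' (f ≫ g) (by rw [Category.assoc, hgρ, h₁.w])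
  have hsq : IsPullback g' f (pullback.snd f₁ ρ) g := by
    refine IsPullback.of_right ?_ (pullback.lift_snd _ _ _) (IsPullback.of_hasPullback f₁ ρ)
    rw [pullback.lift_fst, hgρ]
    exact h₁
  have : Algebra.FiniteType ℤ k.unop.1 :=
    have : Algebra.FiniteType (ULift.{u} ℤ) k.unop.1 := k.unop.1.fg_iff_finiteType.1 k.unop.2
    have : Algebra.FiniteType ℤ (ULift.{u} ℤ) := Algebra.FiniteType.of_surjective
      (ULift.ringEquiv.symm : ℤ ≃+* ULift.{u} ℤ).toRingHom.toIntAlgHom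
      (ULift.ringEquiv.symm : ℤ ≃+* ULift.{u} ℤ).surjective
    Algebra.FiniteType.trans (R := ℤ) (S := ULift.{u} ℤ) (A := k.unop.1) inferInstance inferInstance
  exact ⟨_, _, pullback.snd f₁ ρ, g, g', ρ, pullback.fst f₁ ρ,
    inferInstance, inferInstanceAs (IsAffine (Spec _)), hsq,
    H19.FlatLocus.Model.finiteType_int_Spec k.unop.1, MorphismProperty.pullback_snd _ _ ‹_›,
    IsPullback.of_hasPullback f₁ ρ, fun s₀ => hk (Set.mem_univ s₀)⟩

end Groth.Agent.H69.FibreLoci.Refine
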