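import Groth.Agent.H69.FibreLoci.Loci
import Groth.Prelude.Def_MoreMor
import Mathlib.LinearAlgebra.TensorProduct.Quotient

/-!
# Relative associated points are the associated points of the fibres
-/

set_option autoImplicit false
set_option backward.isDefEq.respectTransparency false
set_option linter.style.haveILetI false
universe u
open CategoryTheory AlgebraicGeometry IsLocalRing TensorProduct
open Groth.Agent.Lib

namespace Groth.Agent.H69.FibreLoci.RelAss

theorem isAssociatedPrime_maximalIdeal_iff {A T : Type*} [CommRing A] [CommRing T] [IsLocalRing A]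
    [IsLocalRing T] [Algebra A T] (hs : Function.Surjective (algebraMap A T)) (V : Type*)
    [AddCommGroup V] [Module A V] [Module T V] [IsScalarTower A T V] :
    IsAssociatedPrime (maximalIdeal T) V ↔ IsAssociatedPrime (maximalIdeal A) V := by
  haveI : IsLocalHom (algebraMap A T) := IsLocalHom.of_surjective _ hs
  have hm : (maximalIdeal T).comap (algebraMap A T) = maximalIdeal A :=
    IsLocalRing.maximalIdeal_comap _
  have hc : ∀ v : V, Submodule.colon (⊥ : Submodule A V) {v} =
      (Submodule.colon (⊥ : Submodule T V) {v}).comap (algebraMap A T) := fun v => by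
    ext r
    simp [Submodule.mem_colon_singleton, algebraMap_smul]
  constructor
  · rintro ⟨-, v, hv⟩
    exact ⟨(maximalIdeal.isMaximal A).isPrime, v, by rw [hc, ← Ideal.comap_radical, ← hv, hm]⟩
  · rintro ⟨-, v, hv⟩
    refine ⟨(maximalIdeal.isMaximal T).isPrime, v, Ideal.comap_injective_of_surjective _ hs ?_⟩
    rw [hm, Ideal.comap_radical, ← hc, hv]

open Groth.Agent.Lib.DerivedOX.PullbackStalk in
/-- An associated point of the restriction to a fibre is a relative associated point. -/
theorem mem_relAss_iff {X S : Scheme.{u}} (f : X ⟶ S) (M : X.Modules) (y : S) (a : f.fiber y) :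
    f.fiberι y a ∈ MoreMor.relAss f M ↔
      a ∈ AssSch.Ass ((Scheme.Modules.pullback (f.fiberι y)).obj M) := by
  set i := f.fiberι y
  have hk := H46.FiberStalk.ker_stalkMap_fiberι f y a
  have hs := i.stalkMap_surjective a
  let A := X.presheaf.stalk (i a)
  let T := (f.fiber y).presheaf.stalk a
  let W := M.presheaf.stalk (i a)
  let V := ((Scheme.Modules.pullback i).obj M).presheaf.stalk a
  let : Algebra A T := (i.stalkMap a).hom.toAlgebra
  let eV : T ⊗[A] W ≃ₗ[T] V := ((pullbackStalkIso i a).app M).toLinearEquiv
  let J : Ideal A := Ideal.map (f.stalkMap (i a)).hom (maximalIdeal ↑(S.presheaf.stalk (f (i a))))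
  have hJ : J = RingHom.ker (algebraMap A T) := hk.symm
  let eT : (A ⧸ J) ≃ₐ[A] T :=
    (Ideal.quotientEquivAlgOfEq A (hJ.trans rfl)).trans
      (Ideal.quotientKerAlgEquivOfSurjective (f := Algebra.ofId A T) hs)
  let E : T ⊗[A] W ≃ₗ[A] W ⧸ J • (⊤ : Submodule A W) :=
    (TensorProduct.congr eT.symm.toLinearEquiv (LinearEquiv.refl A W)).trans
      (TensorProduct.quotTensorEquivQuotSMul W J)
  show IsAssociatedPrime (maximalIdeal A) (W ⧸ J • (⊤ : Submodule A W)) ↔
    IsAssociatedPrime (maximalIdeal T) V
  rw [← eV.isAssociatedPrime_iff, isAssociatedPrime_maximalIdeal_iff (A := A) hs, E.isAssociatedPrime_iff]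

end Groth.Agent.H69.FibreLoci.RelAss
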