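import Groth.Agent.Lib.StalkLoc.AssStalk

/-!
# Torsion of the stalks of a module on a scheme with integral local rings, via associated points
-/

set_option autoImplicit false
universe u
open CategoryTheory AlgebraicGeometry

namespace Groth.Agent.H69.FibreLoci.Torsion

variable {R M : Type*} [CommRing R] [IsDomain R] [IsNoetherianRing R] [AddCommGroup M] [Module R M]

theorem torsion_eq_bot_iff :
    Submodule.torsion R M = ⊥ ↔ ∀ q ∈ associatedPrimes R M, q = ⊥ := by
  constructor
  · rintro h q ⟨hp, m, rfl⟩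
    by_contra hne
    obtain ⟨r, hr, hr0⟩ := (Submodule.ne_bot_iff _).1 hne
    obtain ⟨n, hn⟩ := hr
    rw [Submodule.mem_colon_singleton, Submodule.mem_bot] at hn
    have hm : m ∈ Submodule.torsion R M :=
      Submodule.mem_torsion_iff m |>.2 ⟨⟨r ^ n, mem_nonZeroDivisors_of_ne_zero (pow_ne_zero n hr0)⟩, hn⟩
    rw [h, Submodule.mem_bot] at hm
    subst hm
    refine hp.ne_top ((Ideal.eq_top_iff_one _).2 (Ideal.le_radical ?_))
    simp
  · intro h
    rw [eq_bot_iff]
    intro m hm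
    obtain ⟨⟨r, hr⟩, hrm⟩ := (Submodule.mem_torsion_iff m).1 hm
    by_contra hm0
    rw [Submodule.mem_bot] at hm0
    obtain ⟨P, hP, hle⟩ := exists_le_isAssociatedPrime_of_isNoetherianRing R m hm0
    have hrP : r ∈ P := hle (by rw [Submodule.mem_colon_singleton, Submodule.mem_bot]; exact hrm)
    rw [h P hP, Submodule.mem_bot] at hrP
    exact nonZeroDivisors.ne_zero hr hrP

theorem torsion_eq_top_iff :
    Submodule.torsion R M = ⊤ ↔ ∀ q ∈ associatedPrimes R M, q ≠ ⊥ := by
  constructor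
  · rintro h q ⟨hp, m, rfl⟩ hq
    obtain ⟨⟨r, hr⟩, hrm⟩ := (Submodule.mem_torsion_iff m).1 (h.ge trivial)
    have hrq : r ∈ (Submodule.colon (⊥ : Submodule R M) {m}).radical :=
      Ideal.le_radical (by rw [Submodule.mem_colon_singleton, Submodule.mem_bot]; exact hrm)
    rw [hq, Submodule.mem_bot] at hrq
    exact nonZeroDivisors.ne_zero hr hrq
  · intro h
    rw [eq_top_iff]
    intro m _
    by_contra hm
    refine h ⊥ ⟨Ideal.isPrime_bot, m, ?_⟩ rfl
    have hc : Submodule.colon (⊥ : Submodule R M) {m} = ⊥ := by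
      rw [eq_bot_iff]
      intro r hr
      rw [Submodule.mem_colon_singleton, Submodule.mem_bot] at hr
      by_contra hr0
      rw [Submodule.mem_bot] at hr0
      exact hm ((Submodule.mem_torsion_iff m).2 ⟨⟨r, mem_nonZeroDivisors_of_ne_zero hr0⟩, hr⟩)
    rw [hc]
    exact (Ideal.isPrime_bot).radical.symm

/-- The generic point of the local ring is the generization without proper generizations. -/
theorem asIdeal_eq_bot_iff {X : Scheme.{u}} (x : X) [IsDomain (X.presheaf.stalk x)]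
    (q : Spec (X.presheaf.stalk x)) :
    q.asIdeal = ⊥ ↔ ∀ z, z ⤳ X.fromSpecStalk x q → z = X.fromSpecStalk x q := by
  constructor
  · intro h z hz
    have hx : z ⤳ x := hz.trans ((Scheme.range_fromSpecStalk (X := X) (x := x)).le ⟨q, rfl⟩)
    obtain ⟨p, rfl⟩ := (Scheme.range_fromSpecStalk (X := X) (x := x)).ge hx
    have hpq : p ⤳ q := (X.fromSpecStalk x).isEmbedding.isInducing.specializes_iff.1 hz
    have hle : p.asIdeal ≤ q.asIdeal := (PrimeSpectrum.le_iff_specializes p q).2 hpq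
    rw [h, le_bot_iff] at hle
    exact congrArg _ (PrimeSpectrum.ext (hle.trans h.symm))
  · intro h
    let p : Spec (X.presheaf.stalk x) := ⟨⊥, Ideal.isPrime_bot⟩
    have hp : p ⤳ q := (PrimeSpectrum.le_iff_specializes p q).1 bot_le
    rw [← (X.fromSpecStalk x).isEmbedding.injective (h _ (hp.map (X.fromSpecStalk x).continuous))]

theorem torsion_stalk_eq_bot_iff {X : Scheme.{u}} [IsLocallyNoetherian X] (M : X.Modules)
    [M.IsQuasicoherent] (x : X) [IsDomain (X.presheaf.stalk x)] :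
    Submodule.torsion (X.presheaf.stalk x) (M.presheaf.stalk x) = ⊥ ↔
      ∀ a ∈ AssSch.Ass M, a ⤳ x → ∀ z, z ⤳ a → z = a := by
  rw [torsion_eq_bot_iff]
  constructor
  · intro h a ha hax
    obtain ⟨q, rfl⟩ := (Scheme.range_fromSpecStalk (X := X) (x := x)).ge hax
    exact (asIdeal_eq_bot_iff x q).1
      (h _ ((Lib.StalkLoc.AssStalk.mem_associatedPrimes_stalk_iff x q).2 ha))
  · intro h q hq
    exact (asIdeal_eq_bot_iff x ⟨q, hq.1⟩).2 (h _
      ((Lib.StalkLoc.AssStalk.mem_associatedPrimes_stalk_iff x ⟨q, hq.1⟩).1 hq)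
      ((Scheme.range_fromSpecStalk (X := X) (x := x)).le ⟨_, rfl⟩))

theorem torsion_stalk_eq_top_iff {X : Scheme.{u}} [IsLocallyNoetherian X] (M : X.Modules)
    [M.IsQuasicoherent] (x : X) [IsDomain (X.presheaf.stalk x)] :
    Submodule.torsion (X.presheaf.stalk x) (M.presheaf.stalk x) = ⊤ ↔
      ∀ a ∈ AssSch.Ass M, a ⤳ x → ∃ z, z ⤳ a ∧ z ≠ a := by
  rw [torsion_eq_top_iff]
  constructor
  · intro h a ha hax
    obtain ⟨q, rfl⟩ := (Scheme.range_fromSpecStalk (X := X) (x := x)).ge hax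
    by_contra hc
    push Not at hc
    exact h _ ((Lib.StalkLoc.AssStalk.mem_associatedPrimes_stalk_iff x q).2 ha)
      ((asIdeal_eq_bot_iff x q).2 hc)
  · intro h q hq hbot
    obtain ⟨z, hz, hne⟩ := h _
      ((Lib.StalkLoc.AssStalk.mem_associatedPrimes_stalk_iff x ⟨q, hq.1⟩).1 hq)
      ((Scheme.range_fromSpecStalk (X := X) (x := x)).le ⟨_, rfl⟩)
    exact hne ((asIdeal_eq_bot_iff x ⟨q, hq.1⟩).1 hbot z hz)

end Groth.Agent.H69.FibreLoci.Torsion
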